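import Cfsg.Agent.OddHalf.D5.Sym.Match

/-!
# ODD D5, `C_G(t) = ⟨t⟩ × S_n`: the pieces of `exists_match` (cut out of helper704's proof by helper59)

`Two.core`: in the situation `Two t x j jx k k'` the transposition `jx (p q)`, `p, q` fixed by `k'`, is `z j(κ η)`,
`z ∈ ⟨t⟩`, `κ ∈ ⟨k⟩`, `η` an odd involution on the fixed points of `k`. `finish`: the last step of `exists_match`.
-/

set_option autoImplicit false

namespace Cfsg.Agent.OddHalf.D5.Sym

open Subgroup Equiv Cfsg.Agent.OddHalf.D5.QPerm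
open scoped commutatorElement

variable {G : Type*} [Group G] {n : ℕ} {t x : G} {j jx : Perm (Fin n) →* G} {k k' : Perm (Fin n)}

theorem Two.core (T : Two t x j jx k k') {p q : Fin n} (hpq : p ≠ q) (hp : k' p = p) (hq : k' q = q) :
    ∃ (z : G) (κ η : Perm (Fin n)), (z = 1 ∨ z = t) ∧ (κ = 1 ∨ κ = k) ∧ (∀ a, k a ≠ a → η a = a) ∧ η * η = 1 ∧
      Perm.sign η = -1 ∧ jx (swap p q) = z * j (κ * η) ∧ ∀ l ∈ FA k, (η * (l * η * l⁻¹)) ^ 6 = 1 := by
  classical
  have h := T.h
  have hX := T.hx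
  have kk := T.kk
  set e' : Perm (Fin n) := swap p q with he''
  have he's : Perm.sign e' = -1 := by
    rw [he'', Perm.sign_swap hpq]
  have hek' : e' * k' = k' * e' := by
    rw [he'', mul_swap_eq_swap_mul, hp, hq]
  -- `e1 = jx e' = z j σ`
  obtain ⟨z, σ, hz, hσ, hσk⟩ := T.symm.cent_jc hek'
  have hσσ : σ * σ = 1 := by
    apply h.inj
    have h3 : jx e' * jx e' = 1 := by
      rw [← map_mul, he'', swap_mul_self, map_one]
    rw [hσ] at h3
    calc j (σ * σ) = (z * z) * (j σ * j σ) := by rw [h.zz hz, one_mul, map_mul]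
      _ = z * (z * j σ) * j σ := by group
      _ = z * (j σ * z) * j σ := by rw [h.zcomm hz]
      _ = z * j σ * (z * j σ) := by group
      _ = j 1 := by rw [h3, map_one]
  -- commutators
  have hFA : ∀ c : Perm (Fin n), c * k = k * c → ⁅σ, c⁆ ∈ FA k := by
    intro c hck
    obtain ⟨y, c', hy, hc', hck'⟩ := T.cent_jc hck
    have h3 : j ⁅σ, c⁆ = jx ⁅e', c'⁆ := by
      have h4 := hX.comm_j (Or.inl rfl) hy e' c'
      rw [one_mul, ← hc', hσ] at h4
      have h5 := h.comm_j hz (Or.inl rfl) σ c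
      rw [one_mul] at h5
      rw [← h4, h5]
    have h4 : ⁅e', c'⁆ ∈ FA k' := by
      rw [commutatorElement_def]
      have h5 : e' * c' * e'⁻¹ * c'⁻¹ = e' * (c' * e'⁻¹ * c'⁻¹) := by group
      have h6 : c' * e'⁻¹ * c'⁻¹ = swap (c' p) (c' q) := by
        rw [he'', swap_inv, mul_swap_eq_swap_mul, mul_inv_cancel_right]
      have h7 : ∀ y, k' y = y → k' (c' y) = c' y := by
        intro y hy
        have := congrArg (fun g : Perm (Fin n) => g y) hck'
        simp only [Perm.mul_apply] at this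
        rw [← this, hy]
      rw [h5, h6]
      refine mem_FA.2 ⟨?_, ?_⟩
      · rw [Perm.sign_mul, he's, Perm.sign_swap (fun h => hpq (c'.injective h))]
        decide
      · intro y hy
        have a1 : swap (c' p) (c' q) y = y := by
          apply swap_apply_of_ne_of_ne
          · rintro rfl; exact hy (h7 _ hp)
          · rintro rfl; exact hy (h7 _ hq)
        have a2 : e' y = y := by
          apply swap_apply_of_ne_of_ne
          · rintro rfl; exact hy hp
          · rintro rfl; exact hy hq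
        rw [Perm.mul_apply, a1, a2]
    have h5 : j ⁅σ, c⁆ ∈ (FA k).map j := by
      rw [T.map_eq, h3]; exact mem_map_of_mem _ h4
    obtain ⟨c1, hc1, hc2⟩ := h5
    rwa [← h.inj hc2]
  have hsupp := supp_cases kk hσk (by
    intro c hck a ha
    obtain ⟨_, h4⟩ := mem_FA.1 (hFA c hck)
    rw [commutatorElement_def] at h4
    have h5 : ∀ y, k y ≠ y → ∀ m : Perm (Fin n), m * k = k * m → k (m y) ≠ m y := by
      intro y hy m hm h6
      apply hy
      apply m.injective
      have := congrArg (fun g : Perm (Fin n) => g y) hm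
      simp only [Perm.mul_apply] at this
      rw [this, h6]
    have h6 := h4 (c (σ a)) (h5 _ (h5 _ ha σ hσk) c hck)
    simpa using h6)
  -- `σ = k^b h`
  obtain ⟨κ, η, hκ, hσ', hη⟩ : ∃ κ η : Perm (Fin n), (κ = 1 ∨ κ = k) ∧ σ = κ * η ∧ ∀ a, k a ≠ a → η a = a := by
    rcases hsupp with h3 | h3
    · exact ⟨1, σ, Or.inl rfl, (one_mul _).symm, h3⟩
    · refine ⟨k, k * σ, Or.inr rfl, by rw [← mul_assoc, kk, one_mul], ?_⟩
      intro a ha
      rw [Perm.mul_apply, h3 a ha, inv2 kk]
  have hκκ : κ * κ = 1 := by rcases hκ with rfl | rfl <;> [exact one_mul 1; exact kk]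
  have hκk : κ * k = k * κ := by rcases hκ with rfl | rfl <;> [rw [one_mul, mul_one]; rfl]
  have hκσ : κ * σ = σ * κ := by rcases hκ with rfl | rfl <;> [rw [one_mul, mul_one]; exact hσk.symm]
  have hησ : η = κ * σ := by rw [hσ', ← mul_assoc, hκκ, one_mul]
  have hηη : η * η = 1 := by
    rw [hησ]
    calc κ * σ * (κ * σ) = κ * (σ * κ) * σ := by group
      _ = (κ * κ) * (σ * σ) := by rw [← hκσ]; group
      _ = 1 := by rw [hκκ, hσσ, one_mul]
  have hηs : Perm.sign η = -1 := by
    rcases Int.units_eq_one_or (Perm.sign η) with h3 | h3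
    · exfalso
      have h4 : j η ∈ (FA k').map jx := by
        rw [← T.map_eq]; exact mem_map_of_mem _ (mem_FA.2 ⟨h3, hη⟩)
      obtain ⟨η', hη', hηj⟩ := h4
      obtain ⟨κ', hκ', hκj⟩ : ∃ κ', Perm.sign κ' = 1 ∧ j κ = jx κ' := by
        rcases hκ with rfl | rfl
        · exact ⟨1, Perm.sign_one, by rw [map_one, map_one]⟩
        · exact ⟨k', T.s', T.jk⟩
      have h5 : jx e' = z * jx (κ' * η') := by
        rw [hσ, hσ', map_mul, map_mul, hκj, hηj]
      have h6 : ∃ y m, (y = 1 ∨ y = x) ∧ Perm.sign m = 1 ∧ z = y * jx m := by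
        rcases hz with rfl | rfl
        · exact ⟨1, 1, Or.inl rfl, Perm.sign_one, by rw [map_one, one_mul]⟩
        · exact ⟨x, k', Or.inr rfl, T.s', T.tx⟩
      obtain ⟨y, m, hy, hm, hzy⟩ := h6
      rw [hzy, mul_assoc, ← map_mul] at h5
      obtain ⟨_, h7⟩ := hX.uniq hy h5.symm
      have h8 := congrArg Perm.sign h7
      rw [Perm.sign_mul, Perm.sign_mul, hm, hκ', (mem_FA.1 hη').1, he's] at h8
      exact absurd h8 (by decide)
    · exact h3
  refine ⟨z, κ, η, hz, hκ, hη, hηη, hηs, by rw [hσ, hσ'], ?_⟩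
  intro l hlF
  have hlk := FA_comm kk hlF
  have h3 : j l ∈ (FA k').map jx := by rw [← T.map_eq]; exact mem_map_of_mem _ hlF
  obtain ⟨l', hl1, hl2⟩ := h3
  apply h.inj
  rw [map_pow, map_one]
  have hκl : κ * l = l * κ := by rcases hκ with rfl | rfl <;> [rw [one_mul, mul_one]; exact hlk.symm]
  have h4 : j (η * (l * η * l⁻¹)) = jx (e' * (l' * e' * l'⁻¹)) := by
    have h5 : σ * (l * σ * l⁻¹) = η * (l * η * l⁻¹) := by
      have h6 : σ = η * κ := by rw [hησ, hκσ, mul_assoc, hκκ, mul_one]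
      calc σ * (l * σ * l⁻¹) = (η * κ) * (l * (κ * η) * l⁻¹) := by rw [← h6, ← hσ']
        _ = η * κ * (l * κ) * η * l⁻¹ := by group
        _ = η * κ * (κ * l) * η * l⁻¹ := by rw [hκl]
        _ = η * (κ * κ) * (l * η * l⁻¹) := by group
        _ = η * (l * η * l⁻¹) := by rw [hκκ, mul_one]
    rw [← h5]
    have h6 : jx (e' * (l' * e' * l'⁻¹)) = (z * j σ) * (j l * (z * j σ) * (j l)⁻¹) := by
      rw [map_mul jx e', map_mul jx (l' * e'), map_mul jx l' e', map_inv, ← hl2, hσ]
    rw [h6]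
    calc j (σ * (l * σ * l⁻¹)) = z * z * (j σ * (j l * j σ * (j l)⁻¹)) := by
          rw [h.zz hz, one_mul, map_mul, map_mul, map_mul, map_inv]
      _ = z * (z * j σ) * j l * j σ * (j l)⁻¹ := by group
      _ = z * (j σ * z) * j l * j σ * (j l)⁻¹ := by rw [h.zcomm hz]
      _ = z * j σ * (z * j l) * j σ * (j l)⁻¹ := by group
      _ = z * j σ * (j l * z) * j σ * (j l)⁻¹ := by rw [h.zcomm hz l]
      _ = z * j σ * (j l * (z * j σ) * (j l)⁻¹) := by group
  rw [h4, ← map_pow]
  have h5 : l' * e' * l'⁻¹ = swap (l' p) (l' q) := by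
    rw [he'', mul_swap_eq_swap_mul, mul_inv_cancel_right]
  rw [h5, he'', swap_mul_swap_pow, map_one]

/-- the last step of `exists_match` -/
theorem finish (h : Sp t j) (kk : k * k = 1) (k1 : k ≠ 1) {p q : Fin n} (hpq : p ≠ q) (hp : k p = p)
    (hq : k q = q) {g z : G} {κ : Perm (Fin n)} (gt : g * t * g⁻¹ = t * j k) (gk : g * j k * g⁻¹ = j k)
    (hz : z = 1 ∨ z = t) (hκ : κ = 1 ∨ κ = k) (ge : g * j (swap p q) * g⁻¹ = z * j (κ * swap p q)) :
    g * j (swap p q) * g⁻¹ = j (swap p q) ∨ g * (t * j (swap p q)) * g⁻¹ = t * j (swap p q) := by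
  classical
  set e := swap p q with he
  have hκκ : κ * κ = 1 := by rcases hκ with rfl | rfl <;> [exact one_mul 1; exact kk]
  have jkk : j k * j k = 1 := by rw [← map_mul, kk, map_one]
  rcases hz with rfl | rfl
  · -- `z = 1`
    rcases hκ with rfl | rfl
    · left; rw [ge, one_mul, one_mul]
    · right
      have : g * (t * j e) * g⁻¹ = (g * t * g⁻¹) * (g * j e * g⁻¹) := by group
      rw [this, gt, ge, one_mul, map_mul, mul_assoc, ← mul_assoc (j κ), ← map_mul, kk, map_one, one_mul]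
  · -- `z = t`: `g²` conjugates `e` to `k e`
    exfalso
    have h3 : g * g * z * (g * g)⁻¹ = z := by
      have : g * g * z * (g * g)⁻¹ = g * (g * z * g⁻¹) * g⁻¹ := by group
      rw [this, gt]
      have : g * (z * j k) * g⁻¹ = (g * z * g⁻¹) * (g * j k * g⁻¹) := by group
      rw [this, gt, gk, mul_assoc, jkk, mul_one]
    have h4 : g * g * j e * (g * g)⁻¹ = j (k * e) := by
      have h5 : g * g * j e * (g * g)⁻¹ = g * (g * j e * g⁻¹) * g⁻¹ := by group
      have h6 : g * j κ * g⁻¹ = j κ := by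
        rcases hκ with rfl | rfl
        · rw [map_one]; group
        · exact gk
      have h7 : g * (z * j (κ * e)) * g⁻¹ = (g * z * g⁻¹) * (g * j κ * g⁻¹) * (g * j e * g⁻¹) := by
        rw [map_mul]; group
      rw [h5, ge, h7, gt, h6, ge]
      calc z * j k * j κ * (z * j (κ * e)) = z * (j k * j κ * z) * j (κ * e) := by group
        _ = z * (z * (j k * j κ)) * j (κ * e) := by rw [← map_mul, h.comm]
        _ = (z * z) * j (k * κ * (κ * e)) := by rw [map_mul j (k * κ), map_mul j k κ]; group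
        _ = j (k * e) := by
          rw [h.tt, one_mul]
          congr 1
          rw [mul_assoc, ← mul_assoc κ, hκκ, one_mul]
    obtain ⟨y, c, hy, hc2⟩ := h.cent (g * g) (by
      rw [mul_inv_eq_iff_eq_mul] at h3
      exact h3)
    rw [hc2, h.conj_j hy] at h4
    exact not_conj k1 hp hq hpq (h.inj h4)

end Cfsg.Agent.OddHalf.D5.Sym
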