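import Cfsg.Agent.OddHalf.D5.Sym.MatchPerm

/-!
# ODD D5, `C_G(t) = ⟨t⟩ × S_n`: the number of the conjugates of an involution `k` of `S_{n-2}`, not a transposition

It is greater than `n (n - 1)`, `n ≥ 9`.
-/

set_option autoImplicit false
set_option linter.unusedSectionVars false

namespace Cfsg.Agent.OddHalf.D5.Sym

open Subgroup Equiv Nat

theorem count_step (m i : ℕ) (h2 : 2 ≤ i) (hi : 2 * i ≤ m)
    (h : (m + 2) * (m + 1) * ((m - 2 * i)! * (2 ^ i * i !)) < m !) :
    (m + 1 + 2) * (m + 1 + 1) * ((m + 1 - 2 * i)! * (2 ^ i * i !)) < (m + 1)! := by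
  obtain ⟨d, rfl⟩ := Nat.exists_eq_add_of_le hi
  rw [Nat.add_sub_cancel_left] at h
  have e1 : 2 * i + d + 1 - 2 * i = d + 1 := by omega
  rw [e1, Nat.factorial_succ d, Nat.factorial_succ (2 * i + d)]
  set A := d ! * (2 ^ i * i !) with hA
  have e2 : (2 * i + d + 1 + 2) * (2 * i + d + 1 + 1) * ((d + 1) * d ! * (2 ^ i * i !)) =
      (2 * i + d + 3) * (d + 1) * ((2 * i + d + 2) * A) := by rw [hA]; ring
  rw [e2]
  calc (2 * i + d + 3) * (d + 1) * ((2 * i + d + 2) * A)
      ≤ ((2 * i + d + 1) * (2 * i + d + 1)) * ((2 * i + d + 2) * A) := by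
        apply Nat.mul_le_mul_right
        nlinarith
    _ = (2 * i + d + 1) * ((2 * i + d + 2) * (2 * i + d + 1) * A) := by ring
    _ < (2 * i + d + 1) * (2 * i + d)! := Nat.mul_lt_mul_of_pos_left h (by omega)

theorem count_base (i : ℕ) (hi : 4 ≤ i) : (2 * i + 2) * (2 * i + 1) * (2 ^ i * i !) < (2 * i)! := by
  induction i, hi using Nat.le_induction with
  | base => decide
  | succ i hi ih =>
    have e1 : 2 * (i + 1) = (2 * i + 1) + 1 := by ring
    rw [e1, Nat.factorial_succ (2 * i + 1), Nat.factorial_succ (2 * i), Nat.factorial_succ i]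
    set A := 2 ^ i * i ! with hA
    have e2 : (2 * i + 1 + 1 + 2) * (2 * i + 1 + 1 + 1) * (2 ^ (i + 1) * ((i + 1) * i !)) =
        (2 * i + 4) * (2 * i + 3) * ((2 * i + 2) * A) := by rw [hA]; ring
    rw [e2]
    calc (2 * i + 4) * (2 * i + 3) * ((2 * i + 2) * A)
        ≤ ((2 * i + 2) * (2 * i + 1) * (2 * i + 1)) * ((2 * i + 2) * A) := by
          apply Nat.mul_le_mul_right
          calc (2 * i + 4) * (2 * i + 3) ≤ (2 * (2 * i + 2)) * (2 * (2 * i + 1)) :=
                Nat.mul_le_mul (by omega) (by omega)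
            _ = (2 * i + 2) * (2 * i + 1) * 4 := by ring
            _ ≤ (2 * i + 2) * (2 * i + 1) * (2 * i + 1) := Nat.mul_le_mul_left _ (by omega)
      _ = (2 * i + 1 + 1) * ((2 * i + 1) * ((2 * i + 2) * (2 * i + 1) * A)) := by ring
      _ < (2 * i + 1 + 1) * ((2 * i + 1) * (2 * i)!) :=
          Nat.mul_lt_mul_of_pos_left (Nat.mul_lt_mul_of_pos_left ih (by omega)) (by omega)

theorem count (m i : ℕ) (h7 : 7 ≤ m) (h2 : 2 ≤ i) (hi : 2 * i ≤ m) :
    (m + 2) * (m + 1) * ((m - 2 * i)! * (2 ^ i * i !)) < m ! := by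
  by_cases h4 : 4 ≤ i
  · induction m, hi using Nat.le_induction with
    | base => simpa using count_base i h4
    | succ m hm ih => exact count_step m i h2 hm (ih (by omega))
  · have h3 : i = 2 ∨ i = 3 := by omega
    induction m, h7 using Nat.le_induction with
    | base => rcases h3 with rfl | rfl <;> decide
    | succ m hm ih => exact count_step m i h2 (by omega) (ih (by omega))

section cent

variable {α : Type*} [Fintype α] [DecidableEq α]

theorem cycleType_of_sq' {k : Perm α} (hk : k * k = 1) :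
    k.cycleType = Multiset.replicate (k.support.card / 2) 2 := by
  by_cases h1 : k = 1
  · rw [h1]; simp
  have h2 : orderOf k = 2 := orderOf_eq_prime (by rw [pow_two, hk]) h1
  obtain ⟨m, hm⟩ := Perm.cycleType_prime_order (σ := k) (by rw [h2]; exact Nat.prime_two)
  have h3 := Perm.sum_cycleType k
  rw [hm, h2, Multiset.sum_replicate, smul_eq_mul] at h3
  rw [← h3, hm, h2, Nat.mul_div_cancel _ (by norm_num)]

theorem even_support {k : Perm α} (hk : k * k = 1) : 2 * (k.support.card / 2) = k.support.card := by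
  have h3 := Perm.sum_cycleType k
  rw [cycleType_of_sq' hk, Multiset.sum_replicate, smul_eq_mul] at h3
  omega

theorem card_cent {k : Perm α} (hk : k * k = 1) (h1 : k ≠ 1) :
    Nat.card (centralizer ({k} : Set (Perm α))) =
      (Fintype.card α - 2 * (k.support.card / 2))! * (2 ^ (k.support.card / 2) * (k.support.card / 2)!) := by
  have h2 : k.support.card / 2 ≠ 0 := by
    intro h
    have := even_support hk
    rw [h, mul_zero] at this
    exact h1 (Perm.card_support_eq_zero.1 this.symm)
  rw [Perm.nat_card_centralizer, cycleType_of_sq' hk, Multiset.sum_replicate, Multiset.prod_replicate,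
    Multiset.toFinset_replicate, if_neg h2, Finset.prod_singleton, Multiset.count_replicate_self, smul_eq_mul,
    mul_assoc, mul_comm (k.support.card / 2) 2]

/-- the even centralizer -/
theorem two_mul_card_cent {k : Perm α} (hk : k * k = 1) (h1 : k ≠ 1) :
    2 * Nat.card ↥(alternatingGroup α ⊓ centralizer ({k} : Set (Perm α))) ≤
      Nat.card (centralizer ({k} : Set (Perm α))) := by
  obtain ⟨a, ha⟩ : ∃ a, k a ≠ a := by
    by_contra hcon
    push Not at hcon
    exact h1 (Perm.ext hcon)
  have h2 : (alternatingGroup α).relIndex (centralizer ({k} : Set (Perm α))) ≠ 1 := by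
    rw [Ne, relIndex_eq_one]
    intro h
    have h3 : swap a (k a) ∈ centralizer ({k} : Set (Perm α)) := by
      rw [mem_centralizer_singleton_iff, mul_swap_eq_swap_mul, ← Perm.mul_apply k k, hk, Perm.one_apply,
        swap_comm a (k a)]
    have h4 := h h3
    rw [Perm.mem_alternatingGroup, Perm.sign_swap (Ne.symm ha)] at h4
    exact absurd h4 (by decide)
  have h3 : (alternatingGroup α).relIndex (centralizer ({k} : Set (Perm α))) ≠ 0 := by
    intro h
    have := relIndex_dvd_card (alternatingGroup α) (centralizer ({k} : Set (Perm α)))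
    rw [h, zero_dvd_iff] at this
    exact Nat.card_pos.ne' this
  have h4 := card_mul_index ((alternatingGroup α).subgroupOf (centralizer ({k} : Set (Perm α))))
  have h5 : Nat.card ((alternatingGroup α).subgroupOf (centralizer ({k} : Set (Perm α)))) =
      Nat.card ↥(alternatingGroup α ⊓ centralizer ({k} : Set (Perm α))) := by
    rw [← Nat.card_congr (Subgroup.subgroupOfEquivOfLe (H := alternatingGroup α ⊓ centralizer ({k} : Set (Perm α)))
      inf_le_right).toEquiv]
    rw [inf_subgroupOf_right]
  rw [h5] at h4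
  have h6 : ((alternatingGroup α).subgroupOf (centralizer ({k} : Set (Perm α)))).index =
      (alternatingGroup α).relIndex (centralizer ({k} : Set (Perm α))) := rfl
  rw [h6] at h4
  rw [← h4, mul_comm]
  exact Nat.mul_le_mul_left _ (by omega)

end cent

/-- the group `|L||L'| ≤ |D||L ∩ L'|` -/
theorem card_mul_le {G : Type*} [Group G] [Finite G] {L L' D : Subgroup G} (h : L ≤ D) (h' : L' ≤ D) :
    Nat.card L * Nat.card L' ≤ Nat.card D * Nat.card ↥(L ⊓ L') := by
  have h1 : L.relIndex L' ≤ L.relIndex D := by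
    apply relIndex_le_of_le_right h'
    intro h0
    have := relIndex_dvd_card L D
    rw [h0, zero_dvd_iff] at this
    exact Nat.card_pos.ne' this
  have h2 : Nat.card L * L.relIndex D = Nat.card D := by
    rw [← card_mul_index (L.subgroupOf D)]
    congr 1
    exact (Nat.card_congr (Subgroup.subgroupOfEquivOfLe h).toEquiv).symm
  have h3 : Nat.card ↥(L ⊓ L') * L.relIndex L' = Nat.card L' := by
    rw [← card_mul_index (L.subgroupOf L')]
    congr 1
    rw [← inf_subgroupOf_right]
    exact (Nat.card_congr (Subgroup.subgroupOfEquivOfLe (inf_le_right : L ⊓ L' ≤ L')).toEquiv).symm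
  calc Nat.card L * Nat.card L' = Nat.card L * (Nat.card ↥(L ⊓ L') * L.relIndex L') := by rw [h3]
    _ ≤ Nat.card L * (Nat.card ↥(L ⊓ L') * L.relIndex D) :=
        Nat.mul_le_mul_left _ (Nat.mul_le_mul_left _ h1)
    _ = Nat.card D * Nat.card ↥(L ⊓ L') := by rw [← h2]; ring

end Cfsg.Agent.OddHalf.D5.Sym
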