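import Cfsg.Agent.OddHalf.D5.Sym.Rest
import Cfsg.Agent.OddHalf.D5.Sym.Match

/-!
# ODD D5, `C_G(t) = ⟨t⟩ × S_n`: the type for MATCH (helper59)

`exists_good`: for `n ≥ 11`, `n ≠ 14` there is `t k ~ t`, `k ≠ 1` an even involution with at least two and not exactly
six fixed points.
-/

set_option autoImplicit false

namespace Cfsg.Agent.OddHalf.D5.Sym

open Subgroup Equiv Cfsg.Agent.OddHalf.D5.QPerm Elem

variable {G : Type*} [Group G] {n : ℕ} {t : G} {ι : (⊤ : Subgroup (Perm (Fin n))) →* G}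

theorem κ_ne {a : Fin 4} (ha : a ≠ 0) (w : Fin 4) : κ a w ≠ w := by revert a w; decide

/-- the support of the full `Qe e v` -/
theorem support_Qe {b : ℕ} (e : Fin b × Fin 4 ↪ Fin n) {v : Fin b → Fin 4} (hv : ∀ i, v i ≠ 0) :
    (Qe e v).support.card = 4 * b := by
  have h1 : (Qe e v).support = Finset.univ.map e := by
    ext x
    rw [Perm.mem_support, Finset.mem_map]
    constructor
    · intro hx
      by_contra hno
      apply hx
      apply Qe_off
      rintro ⟨⟨i, w⟩, rfl⟩
      exact hno ⟨(i, w), Finset.mem_univ _, rfl⟩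
    · rintro ⟨⟨i, w⟩, -, rfl⟩
      rw [Qe_apply]
      intro h2
      have h3 := congrArg Prod.snd (e.injective h2)
      exact κ_ne (hv i) w h3
  rw [h1, Finset.card_map, Finset.card_univ, Fintype.card_prod, Fintype.card_fin, Fintype.card_fin, mul_comm]

theorem fixed_add_support (k : Perm (Fin n)) :
    (Finset.univ.filter fun a => k a = a).card + k.support.card = n := by
  have h1 : k.support = Finset.univ.filter fun a => ¬ (k a = a) := by
    ext a; simp [Perm.mem_support]
  rw [h1, Finset.card_filter_add_card_filter_not, Finset.card_univ, Fintype.card_fin]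

/-- the minimal even type: all the even types have `r` fixed points, `r ∈ {0, 1, 6}` -/
theorem false_of_types (h : Spl t ⊤ ι)
    (hK : ∀ a : (⊤ : Subgroup (Perm (Fin n))), Perm.sign (a : Perm (Fin n)) = 1 → ¬ IsConj t (ι a)) {b r : ℕ}
    (hb : 3 ≤ b) (hn : n = 4 * b + r) (hr : r ≤ 1 ∨ 5 ≤ r) {k₀ : Perm (Fin n)} (hk₀ : k₀ * k₀ = 1)
    (hc₀ : IsConj t (t * jj ι k₀)) (hs₀ : k₀.support.card = 4 * b)
    (hmin : ∀ k : Perm (Fin n), k * k = 1 → k ≠ 1 → Perm.sign k = 1 → IsConj t (t * jj ι k) →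
      4 * b ≤ k.support.card) : False := by
  have hle : b * 4 ≤ n := by omega
  let e : Fin b × Fin 4 ↪ Fin n := finProdFinEquiv.toEmbedding.trans (Fin.castLEEmb hle)
  refine sym_rest (A := ⊤) h le_top hb hn hr e hK ?_ ?_
  · intro v hv
    obtain ⟨π, hπ⟩ := exists_conj_of_card hk₀ (Qe_sq e v) (by rw [hs₀, support_Qe e hv])
    refine hc₀.trans (isConj_iff.2 ⟨jj ι π, ?_⟩)
    have hsp := sp_of_spl h
    have h1 : jj ι (Qe e v) = ι (QB (A := ⊤) le_top e v) := rfl
    rw [← h1, ← hπ, map_mul, map_mul, map_inv, ← mul_assoc, ← hsp.comm π]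
    group
  · intro a ha haa ha1 hta
    have h1 := hmin (a : Perm (Fin n)) (congrArg Subtype.val haa) (fun h2 => ha1 (Subtype.ext h2)) ha hta
    have h2 : {x | (a : Perm (Fin n)) x ≠ x}.ncard = (a : Perm (Fin n)).support.card := by
      rw [← Set.ncard_coe_finset]
      congr 1
      ext x
      rw [Finset.mem_coe, Perm.mem_support]
      rfl
    rw [h2]
    exact h1

/-- **the type for MATCH** -/
theorem exists_good [Finite G] (hn : 11 ≤ n) (h14 : n ≠ 14) (h : Spl t ⊤ ι) (hG : ∀ H : Subgroup G, H.index ≠ 2)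
    (hK : ∀ a : (⊤ : Subgroup (Perm (Fin n))), Perm.sign (a : Perm (Fin n)) = 1 → ¬ IsConj t (ι a)) :
    ∃ k : Perm (Fin n), k * k = 1 ∧ k ≠ 1 ∧ Perm.sign k = 1 ∧ IsConj t (t * jj ι k) ∧
      2 ≤ (Finset.univ.filter fun a => k a = a).card ∧ (Finset.univ.filter fun a => k a = a).card ≠ 6 := by
  by_contra hno
  push Not at hno
  obtain ⟨a, ha, ha1, hta⟩ := SymOdd.exists_even (by omega) h hG hK
  have hsp := sp_of_spl h
  have hsq : ∀ k : Perm (Fin n), IsConj t (t * jj ι k) → k * k = 1 := by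
    intro k hk
    obtain ⟨g, hg⟩ := isConj_iff.1 hk
    have h1 : (t * jj ι k) * (t * jj ι k) = 1 := by
      rw [← hg]
      calc g * t * g⁻¹ * (g * t * g⁻¹) = g * (t * t) * g⁻¹ := by group
        _ = 1 := by rw [h.tt]; group
    apply hsp.inj
    rw [map_mul, map_one]
    calc jj ι k * jj ι k = (t * t) * (jj ι k * jj ι k) := by rw [h.tt, one_mul]
      _ = t * (t * jj ι k) * jj ι k := by group
      _ = t * (jj ι k * t) * jj ι k := by rw [hsp.comm]
      _ = (t * jj ι k) * (t * jj ι k) := by group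
      _ = 1 := h1
  have hta' : IsConj t (t * jj ι (a : Perm (Fin n))) := hta
  set k₀ : Perm (Fin n) := (a : Perm (Fin n)) with hk₀
  have hk1 : k₀ ≠ 1 := fun h2 => ha1 (Subtype.ext h2)
  have hkk := hsq k₀ hta'
  obtain ⟨b, hb⟩ := four_dvd_support hkk ha
  have hfix := fixed_add_support k₀
  have hc : ∀ k : Perm (Fin n), k * k = 1 → k ≠ 1 → Perm.sign k = 1 → IsConj t (t * jj ι k) →
      (Finset.univ.filter fun a => k a = a).card ≤ 1 ∨ (Finset.univ.filter fun a => k a = a).card = 6 := by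
    intro k h1 h2 h3 h4
    by_contra hcon
    push Not at hcon
    exact hcon.2 (hno k h1 h2 h3 h4 (by omega))
  have h0 := hc k₀ hkk hk1 ha hta'
  refine false_of_types (k₀ := k₀) (b := b) (r := (Finset.univ.filter fun a => k₀ a = a).card) h hK ?_ ?_ ?_ hkk hta'
    hb ?_
  · omega
  · omega
  · omega
  · intro k h1 h2 h3 h4
    have h5 := hc k h1 h2 h3 h4
    have h6 := fixed_add_support k
    obtain ⟨b', hb'⟩ := four_dvd_support h1 h3
    omega

end Cfsg.Agent.OddHalf.D5.Sym
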