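import Cfsg.Agent.OddHalf.D5.Sym.Fourteen
import Cfsg.Agent.OddHalf.D5.Sym.Good

/-!
# ODD D5, `C_G(t) = ⟨t⟩ × S_n`: `n = 10` and MATCH for all `n ≥ 10` (helper59)

`ten`: `n = 10`, `t k₂ ~ t`, `t k₄ ≁ t`: MATCH for type 2, by the T-formula. `exists_match'`: MATCH for `n ≥ 10`.
-/

set_option autoImplicit false

namespace Cfsg.Agent.OddHalf.D5.Sym

open Subgroup Equiv Cfsg.Agent.OddHalf.D5.QPerm Cfsg.Agent.OddHalf.D5.Elem
open scoped commutatorElement

variable {G : Type*} [Group G]

/-- parity of a union of classes of involutions of `S_10` -/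
theorem parity (P : Perm (Fin 10) → Prop) (hP : ∀ w π, P w → P (π * w * π⁻¹)) (h2 : ∀ w, P w → w * w = 1)
    (h1 : P 1) (h4 : ∀ w, P w → w.support.card ≠ 8) (hev : Even (Nat.card {w // P w})) {u v : Perm (Fin 10)}
    (hu : u.support.card = 2) (hv : v.support.card = 10) (hu2 : u * u = 1) (hv2 : v * v = 1)
    (huv : P u ↔ P v) : False := by
  classical
  obtain ⟨W, hW⟩ : ∃ W : Finset (Perm (Fin 10)), W = Finset.univ.filter P := ⟨_, rfl⟩
  have hWc : Nat.card {w // P w} = W.card := by rw [Nat.card_eq_fintype_card, Fintype.card_subtype, hW]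
  have hmem : ∀ w, w ∈ W ↔ P w := fun w => by rw [hW, Finset.mem_filter]; exact ⟨fun h => h.2, fun h => ⟨Finset.mem_univ _, h⟩⟩
  have hmaps : ∀ w ∈ W, w.support.card / 2 ∈ Finset.range 6 := by
    intro w _
    rw [Finset.mem_range]
    have h5 : w.support.card ≤ 10 := by
      have := Finset.card_le_univ w.support
      rwa [Fintype.card_fin] at this
    omega
  have hsum := Finset.card_eq_sum_card_fiberwise hmaps
  have heven : ∀ w : Perm (Fin 10), w * w = 1 → w.support.card = 2 * (w.support.card / 2) := by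
    intro w hw
    have h5 := Perm.sum_cycleType w
    rw [cycleType_of_sq hw, Multiset.sum_replicate, smul_eq_mul] at h5
    omega
  have key : ∀ (i : ℕ) (w₀ : Perm (Fin 10)), w₀ * w₀ = 1 → w₀.support.card = 2 * i →
      (P w₀ → (W.filter fun w => w.support.card / 2 = i).card =
        (Finset.univ.filter fun w : Perm (Fin 10) => w.cycleType = Multiset.replicate i 2).card) ∧
      (¬ P w₀ → (W.filter fun w => w.support.card / 2 = i).card = 0) := by
    intro i w₀ hw₀ hi
    constructor
    · intro hPw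
      congr 1
      ext w
      rw [Finset.mem_filter, Finset.mem_filter, hmem]
      constructor
      · rintro ⟨h5, h6⟩
        refine ⟨Finset.mem_univ _, ?_⟩
        rw [cycleType_of_sq (h2 w h5), h6]
      · rintro ⟨-, h5⟩
        have h6 : IsConj w₀ w := by
          rw [Perm.isConj_iff_cycleType_eq, cycleType_of_sq hw₀, hi, h5]
          congr 1
          omega
        obtain ⟨π, hπ⟩ := isConj_iff.1 h6
        refine ⟨hπ ▸ hP _ _ hPw, ?_⟩
        have h7 := Perm.sum_cycleType w
        rw [h5, Multiset.sum_replicate, smul_eq_mul] at h7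
        omega
    · intro hPw
      rw [Finset.card_eq_zero, Finset.filter_eq_empty_iff]
      intro w hw h5
      rw [hmem] at hw
      apply hPw
      obtain ⟨π, hπ⟩ := exists_conj_of_card (h2 w hw) hw₀ (by rw [hi, heven w (h2 w hw), h5])
      rw [← hπ]
      exact hP _ _ hw
  have n0 : (Finset.univ.filter fun w : Perm (Fin 10) => w.cycleType = Multiset.replicate 0 2).card = 1 := by
    rw [Equiv.Perm.card_of_cycleType]; decide +kernel
  have n1 : (Finset.univ.filter fun w : Perm (Fin 10) => w.cycleType = Multiset.replicate 1 2).card = 45 := by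
    rw [Equiv.Perm.card_of_cycleType]; decide +kernel
  have n2 : (Finset.univ.filter fun w : Perm (Fin 10) => w.cycleType = Multiset.replicate 2 2).card = 630 := by
    rw [Equiv.Perm.card_of_cycleType]; decide +kernel
  have n3 : (Finset.univ.filter fun w : Perm (Fin 10) => w.cycleType = Multiset.replicate 3 2).card = 3150 := by
    rw [Equiv.Perm.card_of_cycleType]; decide +kernel
  have n5 : (Finset.univ.filter fun w : Perm (Fin 10) => w.cycleType = Multiset.replicate 5 2).card = 945 := by
    rw [Equiv.Perm.card_of_cycleType]; decide +kernel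
  have k0 := (key 0 1 (one_mul 1) (by rw [Perm.support_one, Finset.card_empty])).1 h1
  rw [n0] at k0
  have k1 := key 1 u hu2 hu
  rw [n1] at k1
  have k2 := key 2 (swap 0 1 * swap 2 3) (by decide +kernel) (by decide +kernel)
  rw [n2] at k2
  have k3 := key 3 (swap 0 1 * swap 2 3 * swap 4 5) (by decide +kernel) (by decide +kernel)
  rw [n3] at k3
  have k4 : (W.filter fun w => w.support.card / 2 = 4).card = 0 := by
    rw [Finset.card_eq_zero, Finset.filter_eq_empty_iff]
    intro w hw h5
    rw [hmem] at hw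
    have h6 := heven w (h2 w hw)
    exact h4 w hw (by omega)
  have k5 := key 5 v hv2 hv
  rw [n5] at k5
  rw [hWc, hsum] at hev
  simp only [Finset.sum_range_succ, Finset.sum_range_zero, zero_add] at hev
  rw [k0, k4] at hev
  have b2 : Even (W.filter fun w => w.support.card / 2 = 2).card := by
    by_cases h : P (swap 0 1 * swap 2 3)
    · rw [k2.1 h]; decide
    · rw [k2.2 h]; decide
  have b3 : Even (W.filter fun w => w.support.card / 2 = 3).card := by
    by_cases h : P (swap 0 1 * swap 2 3 * swap 4 5)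
    · rw [k3.1 h]; decide
    · rw [k3.2 h]; decide
  have b15 : Even ((W.filter fun w => w.support.card / 2 = 1).card + (W.filter fun w => w.support.card / 2 = 5).card) := by
    by_cases h : P u
    · rw [k1.1 h, k5.1 (huv.1 h)]; decide
    · rw [k1.2 h, k5.2 (fun h' => h (huv.2 h'))]; decide
  rw [Nat.even_iff] at hev b2 b3 b15
  omega

variable {t : G} {ι : (⊤ : Subgroup (Perm (Fin 10))) →* G}

theorem isConj_conj {y : G} (hy : ∀ π, jj ι π * y = y * jj ι π) (w π : Perm (Fin 10))
    (hc : IsConj t (y * jj ι w)) : IsConj t (y * jj ι (π * w * π⁻¹)) := by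
  refine hc.trans (isConj_iff.2 ⟨jj ι π, ?_⟩)
  rw [map_mul, map_mul, map_inv, ← mul_assoc, hy π]
  group

theorem sq_of_conj (h : Sp t (jj ι)) {z : G} (hz : z = 1 ∨ z = t) {w : Perm (Fin 10)}
    (hc : IsConj t (z * jj ι w)) : w * w = 1 := by
  obtain ⟨g, hg⟩ := isConj_iff.1 hc
  have h1 : (z * jj ι w) * (z * jj ι w) = 1 := by
    rw [← hg]
    calc g * t * g⁻¹ * (g * t * g⁻¹) = g * (t * t) * g⁻¹ := by group
      _ = 1 := by rw [h.tt]; group
  apply h.inj
  rw [map_mul, map_one]
  calc jj ι w * jj ι w = (z * z) * (jj ι w * jj ι w) := by rw [h.zz hz, one_mul]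
    _ = z * (z * jj ι w) * jj ι w := by group
    _ = z * (jj ι w * z) * jj ι w := by rw [h.zcomm hz]
    _ = (z * jj ι w) * (z * jj ι w) := by group
    _ = 1 := h1

/-- **the two T-formulas for `n = 10`** -/
theorem tform [Finite G] (h : Spl t ⊤ ι) (hG : ∀ H : Subgroup G, H.index ≠ 2)
    (h4 : ∀ w : Perm (Fin 10), Perm.sign w = 1 → IsConj t (t * jj ι w) → w.support.card ≠ 8)
    {u v : Perm (Fin 10)} (hu : u.support.card = 2) (hv : v.support.card = 10) (hu2 : u * u = 1) (hv2 : v * v = 1)
    (hus : Perm.sign u = -1) (hvs : Perm.sign v = -1) :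
    ¬ (IsConj t (t * jj ι u) ↔ IsConj t (t * jj ι v)) ∧ ¬ (IsConj t (jj ι u) ↔ IsConj t (jj ι v)) := by
  classical
  have hsp := sp_of_spl h
  obtain ⟨p, τ, hpτ⟩ := SymOdd.exists_proj h
  have P : SymOdd.Pr t ι p τ := ⟨h, hpτ⟩
  have h8 : ∀ w : Perm (Fin 10), w * w = 1 → w.support.card = 8 → Perm.sign w = 1 := by
    intro w hw h8
    have h3 := Perm.sign_of_cycleType w
    rw [cycleType_of_sq hw, h8, Multiset.sum_replicate, Multiset.card_replicate] at h3
    rw [h3]
    decide
  have hmem : ∀ (z : G) (_ : z = 1 ∨ z = t) (w : Perm (Fin 10)), z * jj ι w ∈ centralizer ({t} : Set G) := by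
    intro z hz w
    rw [mem_centralizer_singleton_iff]
    rcases hz with rfl | rfl
    · rw [one_mul, hsp.comm]
    · rw [mul_assoc, ← hsp.comm w]
  constructor
  · intro huv
    refine parity (fun w => IsConj t (t * jj ι w)) (fun w π hw => isConj_conj (fun π => (hsp.comm π).symm) w π hw)
      (fun w hw => sq_of_conj hsp (Or.inr rfl) hw) (by rw [map_one, mul_one])
      (fun w hw h5 => h4 w (h8 w (sq_of_conj hsp (Or.inr rfl) hw) h5) hw h5) ?_ hu hv hu2 hv2 huv
    have hev := TForm.even_card_hom hG h.tt τ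
    have e : {x : centralizer ({t} : Set G) // τ x = -1 ∧ IsConj t (x : G)} ≃
        {w : Perm (Fin 10) // IsConj t (t * jj ι w)} :=
      { toFun := fun x => ⟨p x.1, by
          have h1 := P.eq x.1
          rw [x.2.1, if_neg (by decide)] at h1
          have h2 := x.2.2
          rw [h1] at h2
          exact h2⟩
        invFun := fun w => ⟨⟨t * jj ι w.1, hmem t (Or.inr rfl) w.1⟩, (P.of_t_iota (a := w.1) rfl).2, w.2⟩
        left_inv := fun x => by
          have h1 := P.eq x.1
          rw [x.2.1, if_neg (by decide)] at h1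
          exact Subtype.ext (Subtype.ext h1.symm)
        right_inv := fun w => Subtype.ext (P.of_t_iota (a := w.1) rfl).1 }
    rwa [Nat.card_congr e] at hev
  · intro huv
    have hneg : (-1 : ℤˣ) ≠ 1 := by decide
    refine parity (fun w => (Perm.sign w = 1 ∧ IsConj t (t * jj ι w)) ∨ (Perm.sign w = -1 ∧ IsConj t (1 * jj ι w)))
      ?_ ?_ (Or.inl ⟨Perm.sign_one, by rw [map_one, mul_one]⟩) ?_ ?_ hu hv hu2 hv2 ?_
    · rintro w π (⟨hs, hw⟩ | ⟨hs, hw⟩)
      · exact Or.inl ⟨by rw [Perm.sign_mul, Perm.sign_mul, Perm.sign_inv, mul_comm (Perm.sign π), mul_assoc,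
          Int.units_mul_self, mul_one, hs], isConj_conj (fun π => (hsp.comm π).symm) w π hw⟩
      · exact Or.inr ⟨by rw [Perm.sign_mul, Perm.sign_mul, Perm.sign_inv, mul_comm (Perm.sign π), mul_assoc,
          Int.units_mul_self, mul_one, hs], isConj_conj (fun π => by rw [mul_one, one_mul]) w π hw⟩
    · rintro w (⟨hs, hw⟩ | ⟨hs, hw⟩)
      · exact sq_of_conj hsp (Or.inr rfl) hw
      · exact sq_of_conj hsp (Or.inl rfl) hw
    · rintro w (⟨hs, hw⟩ | ⟨hs, hw⟩) h5
      · exact h4 w hs hw h5
      · have h6 := h8 w (sq_of_conj hsp (Or.inl rfl) hw) h5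
        rw [h6] at hs
        exact hneg hs.symm
    · have hev := TForm.even_card_hom hG h.tt (τ * Perm.sign.comp p)
      have hval : ∀ x : centralizer ({t} : Set G), (τ * Perm.sign.comp p) x = -1 →
          (τ x = -1 ∧ Perm.sign (p x) = 1 ∧ (x : G) = t * jj ι (p x)) ∨
          (τ x = 1 ∧ Perm.sign (p x) = -1 ∧ (x : G) = 1 * jj ι (p x)) := by
        intro x hx
        have h1 := P.eq x
        have h3 : τ x * Perm.sign (p x) = -1 := hx
        rcases Int.units_eq_one_or (τ x) with h5 | h5
        · rw [h5, one_mul] at h3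
          rw [h5, if_pos rfl] at h1
          exact Or.inr ⟨h5, h3, h1⟩
        · rw [h5, if_neg hneg] at h1
          rw [h5] at h3
          refine Or.inl ⟨h5, ?_, h1⟩
          rcases Int.units_eq_one_or (Perm.sign (p x)) with h6 | h6
          · exact h6
          · rw [h6] at h3
            exact absurd h3 (by decide)
      have hbij : Function.Bijective (fun x : {x : centralizer ({t} : Set G) //
          (τ * Perm.sign.comp p) x = -1 ∧ IsConj t (x : G)} => (⟨p x.1, by
            rcases hval x.1 x.2.1 with ⟨h5, h6, h7⟩ | ⟨h5, h6, h7⟩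
            · exact Or.inl ⟨h6, by rw [← h7]; exact x.2.2⟩
            · exact Or.inr ⟨h6, by rw [← h7]; exact x.2.2⟩⟩ : {w : Perm (Fin 10) //
            (Perm.sign w = 1 ∧ IsConj t (t * jj ι w)) ∨ (Perm.sign w = -1 ∧ IsConj t (1 * jj ι w))})) := by
        constructor
        · intro x y hxy
          have h9 : p x.1 = p y.1 := congrArg Subtype.val hxy
          apply Subtype.ext
          apply Subtype.ext
          rcases hval x.1 x.2.1 with ⟨h5, h6, h7⟩ | ⟨h5, h6, h7⟩ <;>
          rcases hval y.1 y.2.1 with ⟨h5', h6', h7'⟩ | ⟨h5', h6', h7'⟩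
          · rw [h7, h7', h9]
          · rw [h9, h6'] at h6
            exact absurd h6 hneg
          · rw [h9, h6'] at h6
            exact absurd h6.symm hneg
          · rw [h7, h7', h9]
        · rintro ⟨w, ⟨hs, hw⟩ | ⟨hs, hw⟩⟩
          · have h5 := P.of_t_iota (x := ⟨t * jj ι w, hmem t (Or.inr rfl) w⟩) (a := w) rfl
            refine ⟨⟨⟨t * jj ι w, hmem t (Or.inr rfl) w⟩, ?_, hw⟩, Subtype.ext h5.1⟩
            show τ _ * Perm.sign (p _) = -1
            rw [h5.1, h5.2, hs]; rfl
          · have h5 := P.of_iota (x := ⟨1 * jj ι w, hmem 1 (Or.inl rfl) w⟩) (a := w) (one_mul _)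
            refine ⟨⟨⟨1 * jj ι w, hmem 1 (Or.inl rfl) w⟩, ?_, hw⟩, Subtype.ext h5.1⟩
            show τ _ * Perm.sign (p _) = -1
            rw [h5.1, h5.2, hs]; rfl
      rwa [Nat.card_congr (Equiv.ofBijective _ hbij)] at hev
    · have e1 : ∀ w : Perm (Fin 10), Perm.sign w = -1 → (((Perm.sign w = 1 ∧ IsConj t (t * jj ι w)) ∨
          (Perm.sign w = -1 ∧ IsConj t (1 * jj ι w))) ↔ IsConj t (jj ι w)) := by
        intro w hw
        rw [one_mul]
        constructor
        · rintro (⟨h5, -⟩ | ⟨-, h5⟩)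
          · exact absurd (hw.symm.trans h5) hneg
          · exact h5
        · exact fun h5 => Or.inr ⟨hw, h5⟩
      exact (e1 u hus).trans (huv.trans (e1 v hvs).symm)

/-- **`n = 10`** -/
theorem ten [Finite G] (h : Spl t ⊤ ι) (hG : ∀ H : Subgroup G, H.index ≠ 2)
    (h4 : ∀ w : Perm (Fin 10), Perm.sign w = 1 → IsConj t (t * jj ι w) → w.support.card ≠ 8)
    {k : Perm (Fin 10)} (kk : k * k = 1) (k1 : k ≠ 1) (s : Perm.sign k = 1) (hc : IsConj t (t * jj ι k))
    (h6 : (Finset.univ.filter fun a => k a = a).card = 6) {p q : Fin 10} (hpq : p ≠ q) (hp : k p = p)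
    (hq : k q = q) : Match t (jj ι) k p q := by
  classical
  have hsp := sp_of_spl h
  rcases view_or (by norm_num) hsp kk k1 s hc h6 hpq hp hq with hM | ⟨g, κ, η, gt, gk, hκ, hη, hf, sη, ge⟩
  · exact hM
  exfalso
  have hkη : k * η = η * k := by
    refine (comm_of_off (S := {a | k a = a}) (fun a ha => (hf a).1 ha) (fun a ha => ha)).symm
  have hv : (k * η).support.card = 10 := by
    have h1 : (k * η).support = Finset.univ := by
      ext a
      rw [Perm.mem_support]
      refine ⟨fun _ => Finset.mem_univ _, fun _ => ?_⟩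
      rw [Perm.mul_apply]
      by_cases ha : k a = a
      · intro h5
        have h7 : η a ≠ a := fun h8 => (hf a).2 h8 ha
        have h8 : k (η a) = η a := by
          by_contra h9
          have h10 := (hf _).1 h9
          exact h7 (η.injective h10)
        rw [h8] at h5
        exact h7 h5
      · rw [(hf a).1 ha]
        exact ha
    rw [h1, Finset.card_univ, Fintype.card_fin]
  have hvv : k * η * (k * η) = 1 := by
    calc k * η * (k * η) = k * (η * k) * η := by group
      _ = (k * k) * (η * η) := by rw [← hkη]; group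
      _ = 1 := by rw [kk, hη, one_mul]
  obtain ⟨t1, t2⟩ := tform h hG h4 (u := swap p q) (v := k * η) (Perm.card_support_swap hpq) hv (swap_mul_self p q)
    hvv (Perm.sign_swap hpq) (by rw [Perm.sign_mul, s, sη, one_mul])
  rcases hκ with rfl | rfl
  · apply t1
    have h1 : g * (t * jj ι (swap p q)) * g⁻¹ = t * jj ι (k * η) := by
      calc g * (t * jj ι (swap p q)) * g⁻¹ = (g * t * g⁻¹) * (g * jj ι (swap p q) * g⁻¹) := by group
        _ = t * jj ι (k * η) := by rw [gt, ge, one_mul, map_mul, mul_assoc]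
    have h2 : IsConj (t * jj ι (swap p q)) (t * jj ι (k * η)) := isConj_iff.2 ⟨g, h1⟩
    exact ⟨fun h3 => h3.trans h2, fun h3 => h3.trans h2.symm⟩
  · apply t2
    have h2 : IsConj (jj ι (swap p q)) (jj ι (κ * η)) := isConj_iff.2 ⟨g, ge⟩
    exact ⟨fun h3 => h3.trans h2, fun h3 => h3.trans h2.symm⟩

/-- two fixed points -/
theorem exists_pq {n : ℕ} {k : Perm (Fin n)} (h2 : 2 ≤ (Finset.univ.filter fun a => k a = a).card) :
    ∃ p q, p ≠ q ∧ k p = p ∧ k q = q := by
  obtain ⟨p, hp, q, hq, hpq⟩ := Finset.one_lt_card.1 (show 1 < _ from h2)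
  exact ⟨p, q, hpq, (Finset.mem_filter.1 hp).2, (Finset.mem_filter.1 hq).2⟩

/-- **MATCH for all `n ≥ 10`** -/
theorem exists_match' [Finite G] {n : ℕ} (hn : 10 ≤ n) {ι : (⊤ : Subgroup (Perm (Fin n))) →* G} (h : Spl t ⊤ ι)
    (hG : ∀ H : Subgroup G, H.index ≠ 2)
    (hK : ∀ a : (⊤ : Subgroup (Perm (Fin n))), Perm.sign (a : Perm (Fin n)) = 1 → ¬ IsConj t (ι a)) :
    ∃ k p q, k * k = 1 ∧ k ≠ 1 ∧ Perm.sign k = 1 ∧ IsConj t (t * jj ι k) ∧ p ≠ q ∧ k p = p ∧ k q = q ∧
      Match t (jj ι) k p q := by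
  classical
  have hsp := sp_of_spl h
  by_cases hgood : ∃ k : Perm (Fin n), k * k = 1 ∧ k ≠ 1 ∧ Perm.sign k = 1 ∧ IsConj t (t * jj ι k) ∧
      2 ≤ (Finset.univ.filter fun a => k a = a).card ∧ (Finset.univ.filter fun a => k a = a).card ≠ 6
  · obtain ⟨k, kk, k1, s, hc, h2, h6⟩ := hgood
    obtain ⟨p, q, hpq, hp, hq⟩ := exists_pq h2
    exact ⟨k, p, q, kk, k1, s, hc, hpq, hp, hq, exists_match (by omega) hsp kk k1 s hc hpq hp hq h6⟩
  have hn' : n = 10 ∨ n = 14 := by
    by_contra hcon
    push Not at hcon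
    exact hgood (exists_good (by omega) hcon.2 h hG hK)
  obtain ⟨a, ha, ha1, hta⟩ := SymOdd.exists_even (by omega) h hG hK
  have hta' : IsConj t (t * jj ι (a : Perm (Fin n))) := hta
  push Not at hgood
  rcases hn' with rfl | rfl
  · have hsq : ∀ k : Perm (Fin 10), IsConj t (t * jj ι k) → k * k = 1 := fun k hk =>
      sq_of_conj hsp (Or.inr rfl) hk
    have hk1 : (a : Perm (Fin 10)) ≠ 1 := fun h2 => ha1 (Subtype.ext h2)
    have hkk := hsq a hta'
    have hfix : ∀ w : Perm (Fin 10), w ≠ 1 → Perm.sign w = 1 → IsConj t (t * jj ι w) →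
        (Finset.univ.filter fun a => w a = a).card = 6 := by
      intro w hw1 hws hwc
      have h1 := hsq w hwc
      have h2 := fixed_add_support w
      obtain ⟨b, hb⟩ := four_dvd_support h1 hws
      have h0 : w.support.card ≠ 0 := by
        rw [Finset.card_ne_zero]
        by_contra h9
        rw [Finset.not_nonempty_iff_eq_empty, Perm.support_eq_empty_iff] at h9
        exact hw1 h9
      have h3 := hgood w h1 hw1 hws hwc
      by_contra h4
      exact h4 (h3 (by omega))
    have h6 := hfix a hk1 ha hta'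
    obtain ⟨p, q, hpq, hp, hq⟩ := exists_pq (k := (a : Perm (Fin 10))) (by omega)
    refine ⟨a, p, q, hkk, hk1, ha, hta', hpq, hp, hq, ten h hG ?_ hkk hk1 ha hta' h6 hpq hp hq⟩
    intro w hws hwc h8
    have hw1 : w ≠ 1 := by
      rintro rfl
      rw [Perm.support_one, Finset.card_empty] at h8
      exact absurd h8 (by norm_num)
    have h2 := fixed_add_support w
    have h3 := hfix w hw1 hws hwc
    omega
  · have hsq : ∀ k : Perm (Fin 14), IsConj t (t * jj ι k) → k * k = 1 := by
      intro k hk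
      obtain ⟨g, hg⟩ := isConj_iff.1 hk
      have h1 : (t * jj ι k) * (t * jj ι k) = 1 := by
        rw [← hg]
        calc g * t * g⁻¹ * (g * t * g⁻¹) = g * (t * t) * g⁻¹ := by group
          _ = 1 := by rw [h.tt]; group
      apply hsp.inj
      rw [map_mul, map_one]
      calc jj ι k * jj ι k = (t * t) * (jj ι k * jj ι k) := by rw [h.tt, one_mul]
        _ = t * (t * jj ι k) * jj ι k := by group
        _ = t * (jj ι k * t) * jj ι k := by rw [hsp.comm]
        _ = (t * jj ι k) * (t * jj ι k) := by group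
        _ = 1 := h1
    have hk1 : (a : Perm (Fin 14)) ≠ 1 := fun h2 => ha1 (Subtype.ext h2)
    have hkk := hsq a hta'
    have hfix : ∀ w : Perm (Fin 14), w ≠ 1 → Perm.sign w = 1 → IsConj t (t * jj ι w) →
        (Finset.univ.filter fun a => w a = a).card = 6 := by
      intro w hw1 hws hwc
      have h1 := hsq w hwc
      have h2 := fixed_add_support w
      obtain ⟨b, hb⟩ := four_dvd_support h1 hws
      have h3 := hgood w h1 hw1 hws hwc
      by_contra h4
      exact h4 (h3 (by omega))
    refine fourteen hsp hkk ?_ hta' ?_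
    · have h2 := fixed_add_support (a : Perm (Fin 14))
      have h3 := hfix a hk1 ha hta'
      omega
    · intro m hm hm1 hms hmc
      exact (hfix m hm1 hms hmc).le

end Cfsg.Agent.OddHalf.D5.Sym
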