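import Cfsg.Agent.OddHalf.D5.Sym.Main
import Cfsg.Agent.OddHalf.D5.Sym.Ten
import Cfsg.Agent.OddHalf.D5.NineFour

/-!
# ODD D5, `C_G(t) = ⟨t⟩ × S_n`, `n ≥ 9`: MATCH (helper59)

`matHyp : MatHyp`: helper704's `exists_match`, REST, helper219's `n = 9`, and `n = 10, 14`.
-/

set_option autoImplicit false

namespace Cfsg.Agent.OddHalf.D5.Sym

open Subgroup Equiv

universe u

theorem hom_of_index {G : Type*} [Group G] (hG : ∀ H : Subgroup G, H.index ≠ 2) (m : G →* ℤˣ) (g : G) : m g = 1 := by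
  rcases Int.units_eq_one_or (m g) with h | h
  · exact h
  exfalso
  apply hG m.ker
  rw [index_ker]
  have hsurj : Function.Surjective m := by
    intro y
    rcases Int.units_eq_one_or y with h1 | h1
    · exact ⟨1, by rw [h1, map_one]⟩
    · exact ⟨g, by rw [h, h1]⟩
  rw [MonoidHom.range_eq_top.2 hsurj, Nat.card_congr topEquiv.toEquiv, Nat.card_eq_fintype_card]
  rfl

theorem matHyp : MatHyp.{u} := by
  classical
  intro G _ _ n t ι hn h hG hK
  rcases Nat.lt_or_ge 9 n with h10 | h9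
  · obtain ⟨k, p, q, kk, k1, s, -, hpq, hp, hq, hM⟩ := exists_match' h10 h hG hK
    exact ⟨k, p, q, kk, k1, s, hpq, hp, hq, hM⟩
  have hn9 : n = 9 := le_antisymm h9 hn
  subst hn9
  have hsp := sp_of_spl h
  by_cases hgood : ∃ k : Perm (Fin 9), k * k = 1 ∧ k ≠ 1 ∧ Perm.sign k = 1 ∧ IsConj t (t * jj ι k) ∧
      2 ≤ (Finset.univ.filter fun a => k a = a).card ∧ (Finset.univ.filter fun a => k a = a).card ≠ 6
  · obtain ⟨k, kk, k1, s, hc, h2, h6⟩ := hgood
    obtain ⟨p, q, hpq, hp, hq⟩ := exists_pq h2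
    exact ⟨k, p, q, kk, k1, s, hpq, hp, hq, exists_match (by omega) hsp kk k1 s hc hpq hp hq h6⟩
  exfalso
  push Not at hgood
  obtain ⟨a, ha, ha1, hta⟩ := SymOdd.exists_even (by omega) h hG hK
  have hta' : IsConj t (t * jj ι (a : Perm (Fin 9))) := hta
  have hk1 : (a : Perm (Fin 9)) ≠ 1 := fun h2 => ha1 (Subtype.ext h2)
  have hkk : (a : Perm (Fin 9)) * a = 1 := by
    obtain ⟨g, hg⟩ := isConj_iff.1 hta'
    have h1 : (t * jj ι (a : Perm (Fin 9))) * (t * jj ι (a : Perm (Fin 9))) = 1 := by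
      rw [← hg]
      calc g * t * g⁻¹ * (g * t * g⁻¹) = g * (t * t) * g⁻¹ := by group
        _ = 1 := by rw [h.tt]; group
    apply hsp.inj
    rw [map_mul, map_one]
    calc jj ι (a : Perm (Fin 9)) * jj ι (a : Perm (Fin 9))
        = (t * t) * (jj ι (a : Perm (Fin 9)) * jj ι (a : Perm (Fin 9))) := by rw [h.tt, one_mul]
      _ = t * (t * jj ι (a : Perm (Fin 9))) * jj ι (a : Perm (Fin 9)) := by group
      _ = t * (jj ι (a : Perm (Fin 9)) * t) * jj ι (a : Perm (Fin 9)) := by rw [hsp.comm]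
      _ = (t * jj ι (a : Perm (Fin 9))) * (t * jj ι (a : Perm (Fin 9))) := by group
      _ = 1 := h1
  refine Nine.nine_false (hom_of_index hG) hsp (fun w hw => hK (SymOdd.up w) hw) hkk hk1 ha hta' ?_
  intro w hws hww hw1 hwc
  have h2 := fixed_add_support w
  obtain ⟨b, hb⟩ := four_dvd_support hww hws
  have h3 := hgood w hww hw1 hws hwc
  by_contra h4
  have h0 : w.support.card ≠ 0 := by
    rw [Finset.card_ne_zero]
    by_contra h9
    rw [Finset.not_nonempty_iff_eq_empty, Perm.support_eq_empty_iff] at h9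
    exact hw1 h9
  have h5 := h3 (by omega)
  omega

end Cfsg.Agent.OddHalf.D5.Sym
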