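import Cfsg.Agent.OddHalf.D5.Sym.Main
import Cfsg.Agent.OddHalf.D5.Sym.MatAll
import Cfsg.Agent.OddHalf.D5.SymLab.End
import Cfsg.Agent.OddHalf.Soft

/-!
# ODD D5, `C_G(t) = ⟨t⟩ × S_n`, `n ≥ 9`: the row
-/

set_option autoImplicit false
set_option linter.style.haveILetI false

namespace Cfsg.Agent.OddHalf.D5.Sym

open Subgroup Equiv Cfsg Cfsg.Agent.SignalizersComponents Cfsg.Agent.OddHalf.D3 Cfsg.Agent.OddHalf.NI

universe u

theorem mem_FA_iff {n : ℕ} {e a : Perm (Fin n)} : a ∈ FA e ↔ Perm.sign a = 1 ∧ Perm.Disjoint a e := by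
  rw [mem_FA]
  constructor
  · rintro ⟨h1, h2⟩
    refine ⟨h1, fun x => ?_⟩
    by_cases hx : e x = x
    · exact Or.inr hx
    · exact Or.inl (h2 x hx)
  · rintro ⟨h1, h2⟩
    exact ⟨h1, fun x hx => (h2 x).resolve_right hx⟩

/-- 436's form of `GoodJ` -/
theorem good_of {G : Type*} [Group G] [Finite G] {n : ℕ} {t s : G} {j : Perm (Fin n) →* G} {e : Perm (Fin n)}
    {J : Subgroup G} (hb : centralizerPPrimeCore 2 s = ⊥) (hc : Comp s J) (hd : Dg (LL j e) J t) :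
    SymLab.Good t j s e J where
  comp := hc
  ne := hd.ne
  mem := by
    intro d hd'
    obtain ⟨a, ha, hae⟩ := hd.mem d hd'
    obtain ⟨h1, h2⟩ := mem_FA_iff.1 ha
    exact ⟨a, h1, h2, hae.symm⟩
  ex := by
    intro a ha hae
    obtain ⟨d, hd', hda⟩ := hd.ex (j a) ⟨a, mem_FA_iff.2 ⟨ha, hae⟩, rfl⟩
    exact ⟨d, hd', hda.symm⟩
  z3 := by
    intro z hz hzc h3
    have h1 := Soft.CompOf.center_isPGroup hb (K := J) ⟨hc.le, hc.comp⟩
    have h2 : (⟨z, hz⟩ : J) ∈ center ↥J := by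
      rw [mem_center_iff]
      rintro ⟨y, hy⟩
      exact Subtype.ext (hzc y hy).symm
    obtain ⟨m, hm⟩ := h1 ⟨⟨z, hz⟩, h2⟩
    have h4 : z ^ 2 ^ m = 1 := by
      have := congrArg (fun x : center ↥J => ((x : J) : G)) hm
      simpa using this
    have h5 : orderOf z ∣ Nat.gcd (2 ^ m) 3 := Nat.dvd_gcd (orderOf_dvd_of_pow_eq_one h4) (orderOf_dvd_of_pow_eq_one h3)
    have h6 : Nat.gcd (2 ^ m) 3 = 1 := Nat.Coprime.pow_left m (by norm_num)
    rw [h6, Nat.dvd_one] at h5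
    exact orderOf_eq_one_iff.1 h5

/-- **END** -/
theorem endHyp : EndHyp.{u} := by
  classical
  intro G _ _ n t j hn C hB hmax h hJ
  have hjj : jj (jι j) = j := rfl
  refine SymLab.exists_two hn h.spl ?_ ?_
  · rintro e ⟨p, q, hpq, rfl⟩
    obtain ⟨J, H⟩ := hJ p q hpq
    refine ⟨J, ?_⟩
    rw [hjj]
    have ho := h.order_s hpq (z := 1) (Or.inl rfl)
    rw [one_mul] at ho
    exact good_of (C.bal _ ho) H.comp H.dg
  · rintro f ⟨p, q, hpq, rfl⟩
    rw [hjj]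
    intro g k hg hk hkf k4 gt hD
    have ho := h.order_s hpq (z := t) (Or.inr rfl)
    obtain ⟨D, hDc, hcase⟩ := h.pump hB (by omega) hpq (z := t) (Or.inr rfl)
    have hkf' : ∀ a, swap p q a ≠ a → k a = a := fun a ha => (hkf a).resolve_right ha
    have key : ¬ LL j (swap p q) ≤ D := by
      intro hle
      refine h.no_big hn hpq (hmax _ D ho hDc) hle (hD D hDc ?_) gt hk k4 hkf'
      intro a ha hae
      exact hle ⟨a, mem_FA_iff.2 ⟨ha, hae⟩, rfl⟩
    rcases hcase with h1 | ⟨h1, -⟩ | h1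
    · exact absurd h1.le key
    · exact absurd h1.le key
    · exact ⟨D, good_of (C.bal _ ho) hDc h1⟩

/-- **the row `C_G(t) = ⟨t⟩ × S_n`, `n ≥ 9`** -/
theorem symRow : SymRow.{u} (9 ≤ ·) := symRow_of endHyp matHyp

end Cfsg.Agent.OddHalf.D5.Sym
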