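import Cfsg.Agent.OddHalf.D5.Sym.Pair
import Cfsg.Agent.OddHalf.D5.ElemNorm

/-!
# ODD D5, `C_G(t) = ⟨t⟩ × S_n`: the exotic case and `n = 14` (helper59)

`view_or`: if `k` has six fixed points, then MATCH for `k`, or there is a view of `t k` in which a transposition becomes
`κ η`, `κ ∈ ⟨k⟩`, `η` a full involution of `Fix k`. `fourteen`: `n = 14`, all even types have six fixed points.
-/

set_option autoImplicit false

namespace Cfsg.Agent.OddHalf.D5.Sym

open Subgroup Equiv Cfsg.Agent.OddHalf.D5.QPerm Cfsg.Agent.OddHalf.D5.Elem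
open scoped commutatorElement

variable {G : Type*} [Group G] {n : ℕ} {t x : G} {j jx : Perm (Fin n) →* G} {k k' : Perm (Fin n)}

/-- an odd involution on six letters is a transposition or full -/
theorem dich {η : Perm (Fin n)} (hη : ∀ a, k a ≠ a → η a = a) (hh : η * η = 1) (hs : Perm.sign η = -1)
    (h6 : (Finset.univ.filter fun a => k a = a).card = 6) :
    (∃ a b, a ≠ b ∧ k a = a ∧ k b = b ∧ η = swap a b) ∨ ∀ a, k a ≠ a ↔ η a = a := by
  classical
  have hsub : η.support ⊆ Finset.univ.filter fun a => k a = a := by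
    intro a ha
    rw [Perm.mem_support] at ha
    rw [Finset.mem_filter]
    refine ⟨Finset.mem_univ _, ?_⟩
    by_contra h1
    exact ha (hη a h1)
  have hle := Finset.card_le_card hsub
  rw [h6] at hle
  have h1 := cycleType_of_sq hh
  have h2 := Perm.sum_cycleType η
  rw [h1, Multiset.sum_replicate, smul_eq_mul] at h2
  have h3 := Perm.sign_of_cycleType η
  rw [h1, hs, Multiset.sum_replicate, Multiset.card_replicate, smul_eq_mul] at h3
  generalize hm : η.support.card / 2 = m at *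
  have hm3 : m ≤ 3 := by omega
  interval_cases m
  · exact absurd h3 (by decide)
  · left
    have h4 : η.support.card = 2 := by omega
    obtain ⟨a, b, hab, he⟩ := Perm.card_support_eq_two.1 h4
    have h5 : η a ≠ a := by rw [he, swap_apply_left]; exact Ne.symm hab
    have h6 : η b ≠ b := by rw [he, swap_apply_right]; exact hab
    refine ⟨a, b, hab, ?_, ?_, he⟩
    · by_contra h7; exact h5 (hη a h7)
    · by_contra h7; exact h6 (hη b h7)
  · exact absurd h3 (by decide)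
  · right
    have h4 : η.support = Finset.univ.filter fun a => k a = a :=
      Finset.eq_of_subset_of_card_le hsub (by rw [h6]; omega)
    intro a
    have h5 : a ∈ η.support ↔ a ∈ Finset.univ.filter fun a => k a = a := by rw [h4]
    rw [Perm.mem_support, Finset.mem_filter] at h5
    constructor
    · exact hη a
    · intro h6 h7
      exact (h5.2 ⟨Finset.mem_univ _, h7⟩) h6

/-- **the two cases for six fixed points** -/
theorem view_or (hn : 6 ≤ n) (h : Sp t j) (kk : k * k = 1) (k1 : k ≠ 1) (s : Perm.sign k = 1)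
    (hc : IsConj t (t * j k)) (h6 : (Finset.univ.filter fun a => k a = a).card = 6) {p q : Fin n} (hpq : p ≠ q)
    (hp : k p = p) (hq : k q = q) :
    Match t j k p q ∨ ∃ (g : G) (κ η : Perm (Fin n)), g * t * g⁻¹ = t * j k ∧ g * j k * g⁻¹ = j k ∧
      (κ = 1 ∨ κ = k) ∧ η * η = 1 ∧ (∀ a, k a ≠ a ↔ η a = a) ∧ Perm.sign η = -1 ∧
      g * j (swap p q) * g⁻¹ = j (κ * η) := by
  classical
  obtain ⟨g, gt, gk⟩ := exists_view hn h kk k1 s hc (by omega)
  have T := two_of_view h kk k1 s gt gk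
  obtain ⟨z, κ, η, hz, hκ, hη, hηη, sη, he, -⟩ := T.core hpq hp hq
  have ge : g * j (swap p q) * g⁻¹ = z * j (κ * η) := he
  have hz1 := z_one h kk k1 s hpq hp hq gt gk hz hκ hη sη ge
  rcases dich hη hηη sη h6 with ⟨a, b, hab, ha, hb, hswap⟩ | hfull
  · left
    obtain ⟨π, hπk, hπa, hπb⟩ := exists_move hab hpq ha hb hp hq
    have c1 : ∀ w : G, (j π * g) * w * (j π * g)⁻¹ = j π * (g * w * g⁻¹) * (j π)⁻¹ := by
      intro w; group
    have e1 : (j π * g) * t * (j π * g)⁻¹ = t * j k := by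
      rw [c1, gt]
      have : j π * (t * j k) = (t * j k) * j π := by
        rw [← mul_assoc, ← h.comm, mul_assoc, ← map_mul, hπk, map_mul, mul_assoc]
      rw [this, mul_inv_cancel_right]
    have e2 : (j π * g) * j k * (j π * g)⁻¹ = j k := by
      rw [c1, gk, ← map_mul, hπk, map_mul, mul_inv_cancel_right]
    have e3 : (j π * g) * j (swap p q) * (j π * g)⁻¹ = z * j (κ * swap p q) := by
      rw [c1, ge]
      have h3 : j π * (z * j (κ * η)) * (j π)⁻¹ = z * j (π * (κ * η) * π⁻¹) := by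
        rw [map_mul j (π * (κ * η)), map_mul j π, map_inv, ← mul_assoc, ← h.zcomm hz]
        group
      rw [h3]
      congr 2
      rw [hswap]
      have h4 : π * κ = κ * π := by rcases hκ with rfl | rfl <;> [rw [one_mul, mul_one]; exact hπk]
      calc π * (κ * swap a b) * π⁻¹ = (π * κ) * swap a b * π⁻¹ := by group
        _ = κ * (π * swap a b) * π⁻¹ := by rw [h4]; group
        _ = κ * swap p q := by rw [mul_swap_eq_swap_mul, hπa, hπb]; group
    exact ⟨j π * g, e1, e2, finish h kk k1 hpq hp hq e1 e2 hz hκ e3⟩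
  · right
    exact ⟨g, κ, η, gt, gk, hκ, hηη, hfull, sη, by rw [ge, hz1, one_mul]⟩

/-! ### two involutions of type 4 on eight letters -/

/-- `(01)(23)(45)(67)` -/
def f1 : Perm (Fin 8) := swap 0 1 * swap 2 3 * (swap 4 5 * swap 6 7)

/-- `(02)(13)(46)(57)` -/
def f2 : Perm (Fin 8) := swap 0 2 * swap 1 3 * (swap 4 6 * swap 5 7)

def fv : Perm (Fin 8) := swap 0 1 * swap 4 5 * (swap 0 4 * swap 1 5 * (swap 2 6 * swap 3 7)) * (swap 0 1 * swap 4 5)

def fr : Perm (Fin 8) := swap 0 1 * swap 4 5 * (swap 2 4 * swap 4 6 * (swap 3 5 * swap 5 7)) * (swap 0 1 * swap 4 5)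

def fs : Perm (Fin 8) := swap 1 2 * swap 5 6

theorem f_facts : f1 * f1 = 1 ∧ f2 * f2 = 1 ∧ f1 * f2 = f2 * f1 ∧ f1 ≠ f2 ∧ f1 ≠ 1 ∧ f2 ≠ 1 ∧
    (∀ i, f1 i ≠ i) ∧ (∀ i, f2 i ≠ i) := by decide

theorem f_sign : Perm.sign f1 = 1 ∧ Perm.sign f2 = 1 := by
  constructor
  · rw [f1, Perm.sign_mul, Perm.sign_mul, Perm.sign_mul, Perm.sign_swap (by decide), Perm.sign_swap (by decide),
      Perm.sign_swap (by decide), Perm.sign_swap (by decide)]
    decide
  · rw [f2, Perm.sign_mul, Perm.sign_mul, Perm.sign_mul, Perm.sign_swap (by decide), Perm.sign_swap (by decide),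
      Perm.sign_swap (by decide), Perm.sign_swap (by decide)]
    decide

theorem f_comm1 : fv * f1 = f1 * fv ∧ fr * f1 = f1 * fr := by decide

theorem f_comm2 : (fs * fv * fs⁻¹) * f2 = f2 * (fs * fv * fs⁻¹) ∧ (fs * fr * fs⁻¹) * f2 = f2 * (fs * fr * fs⁻¹) := by
  decide +kernel

theorem f_br1 : fv * fr * fv⁻¹ * fr⁻¹ = f1 * f2 := by decide +kernel

theorem f_br2 : (fs * fv * fs⁻¹) * (fs * fr * fs⁻¹) * (fs * fv * fs⁻¹)⁻¹ * (fs * fr * fs⁻¹)⁻¹ = f1 * f2 := by
  decide +kernel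

/-- **`n = 14`** -/
theorem fourteen {j : Perm (Fin 14) →* G} (h : Sp t j) {k₀ : Perm (Fin 14)} (kk₀ : k₀ * k₀ = 1)
    (hs₀ : k₀.support.card = 8) (hc₀ : IsConj t (t * j k₀))
    (htype : ∀ m, m * m = 1 → m ≠ 1 → Perm.sign m = 1 → IsConj t (t * j m) →
      (Finset.univ.filter fun a => m a = a).card ≤ 6) :
    ∃ k p q, k * k = 1 ∧ k ≠ 1 ∧ Perm.sign k = 1 ∧ IsConj t (t * j k) ∧ p ≠ q ∧ k p = p ∧ k q = q ∧
      Match t j k p q := by
  classical
  let c : Fin 8 ↪ Fin 14 := Fin.castLEEmb (by norm_num)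
  let E : Perm (Fin 8) →* Perm (Fin 14) := Perm.viaEmbeddingHom c
  obtain ⟨q1, q2, q3, q4, q5, q6, q7, q8⟩ := f_facts
  have hEinj : Function.Injective E := Perm.viaEmbeddingHom_injective c
  have hEfix : ∀ f : Perm (Fin 8), (∀ i, f i ≠ i) → ∀ a, E f a = a ↔ a ∉ Set.range c := by
    intro f hf a
    constructor
    · rintro h1 ⟨i, rfl⟩
      have h2 : E f (c i) = c (f i) := Perm.viaEmbedding_apply _ _ _
      rw [h2] at h1
      exact hf i (c.injective h1)
    · exact fun h1 => Perm.viaEmbedding_apply_of_notMem _ _ _ h1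
  have hcard : ∀ f : Perm (Fin 8), (∀ i, f i ≠ i) → (E f).support.card = 8 := by
    intro f hf
    have h1 : (E f).support = Finset.univ.map c := by
      ext a
      rw [Perm.mem_support, Finset.mem_map]
      have h2 := hEfix f hf a
      constructor
      · intro h3
        by_contra h4
        apply h3
        rw [h2]
        rintro ⟨i, hi⟩
        exact h4 ⟨i, Finset.mem_univ _, hi⟩
      · rintro ⟨i, -, hi⟩ h3
        exact h2.1 h3 ⟨i, hi⟩
    rw [h1, Finset.card_map, Finset.card_univ, Fintype.card_fin]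
  have hfixcard : ∀ f : Perm (Fin 8), (∀ i, f i ≠ i) → (Finset.univ.filter fun a => E f a = a).card = 6 := by
    intro f hf
    have h1 : (E f).support = Finset.univ.filter fun a => ¬ (E f a = a) := by
      ext a; simp [Perm.mem_support]
    have h2 := hcard f hf
    have h3 := Finset.card_filter_add_card_filter_not (s := Finset.univ) (fun a : Fin 14 => E f a = a)
    rw [← h1, h2, Finset.card_univ, Fintype.card_fin] at h3
    omega
  have hsign : ∀ f : Perm (Fin 8), Perm.sign f = 1 → Perm.sign (E f) = 1 := by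
    intro f hf
    rw [← hf]
    exact sign_via c f
  have hcl : ∀ f : Perm (Fin 8), f * f = 1 → (∀ i, f i ≠ i) → IsConj t (t * j (E f)) := by
    intro f hf hf'
    obtain ⟨π, hπ⟩ := exists_conj_of_card kk₀ (k' := E f) (by rw [← map_mul, hf, map_one]) (by rw [hs₀, hcard f hf'])
    refine hc₀.trans (isConj_iff.2 ⟨j π, ?_⟩)
    rw [← hπ, map_mul, map_mul, map_inv, ← mul_assoc, ← h.comm π]
    group
  have hp8 : (8 : Fin 14) ∉ Set.range c := by
    rintro ⟨i, hi⟩
    have := congrArg Fin.val hi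
    have h2 : ((c i : Fin 14) : ℕ) = i := rfl
    rw [h2] at this
    have h3 := i.2
    simp at this
    omega
  have hp9 : (9 : Fin 14) ∉ Set.range c := by
    rintro ⟨i, hi⟩
    have := congrArg Fin.val hi
    have h2 : ((c i : Fin 14) : ℕ) = i := rfl
    rw [h2] at this
    have h3 := i.2
    simp at this
    omega
  have kk₁ : E f1 * E f1 = 1 := by rw [← map_mul, q1, map_one]
  have kk₂ : E f2 * E f2 = 1 := by rw [← map_mul, q2, map_one]
  have k1 : E f1 ≠ 1 := fun e => q5 (hEinj (by rw [e, map_one]))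
  have k2 : E f2 ≠ 1 := fun e => q6 (hEinj (by rw [e, map_one]))
  have hc1 := hcl f1 q1 q7
  have hc2 := hcl f2 q2 q8
  have hpq : (8 : Fin 14) ≠ 9 := by decide
  rcases view_or (by norm_num) h kk₁ k1 (hsign _ f_sign.1) hc1 (hfixcard f1 q7) hpq ((hEfix f1 q7 8).2 hp8)
    ((hEfix f1 q7 9).2 hp9) with hM | ⟨g₁, κ₁, η₁, gt₁, gk₁, hκ₁, hη₁, hf₁, sη₁, ge₁⟩
  · exact ⟨E f1, 8, 9, kk₁, k1, hsign _ f_sign.1, hc1, hpq, (hEfix f1 q7 8).2 hp8, (hEfix f1 q7 9).2 hp9, hM⟩
  rcases view_or (by norm_num) h kk₂ k2 (hsign _ f_sign.2) hc2 (hfixcard f2 q8) hpq ((hEfix f2 q8 8).2 hp8)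
    ((hEfix f2 q8 9).2 hp9) with hM | ⟨g₂, κ₂, η₂, gt₂, gk₂, hκ₂, hη₂, hf₂, sη₂, ge₂⟩
  · exact ⟨E f2, 8, 9, kk₂, k2, hsign _ f_sign.2, hc2, hpq, (hEfix f2 q8 8).2 hp8, (hEfix f2 q8 9).2 hp9, hM⟩
  have hfix : ∀ a, E f1 a = a ↔ E f2 a = a := fun a => (hEfix f1 q7 a).trans (hEfix f2 q8 a).symm
  obtain ⟨π, hπ, hπη⟩ := exists_conj_fix (k := E f1) (η₁ := η₁) (η₂ := η₂) hf₁
    (fun a => by rw [← hf₂ a, Ne, Ne, hfix a]) hη₁ hη₂
  have hπk : π * E f2 = E f2 * π := by
    refine comm_of_off (S := {a | E f2 a = a}) ?_ (fun a ha => ha)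
    intro a ha
    exact hπ a (fun h1 => ha ((hfix a).1 h1))
  have hπκ : π * κ₂ = κ₂ * π := by
    rcases hκ₂ with rfl | rfl
    · rw [one_mul, mul_one]
    · exact hπk
  have c1 : ∀ w : G, (j π * g₂) * w * (j π * g₂)⁻¹ = j π * (g₂ * w * g₂⁻¹) * (j π)⁻¹ := by
    intro w; group
  have e1 : (j π * g₂) * t * (j π * g₂)⁻¹ = t * j (E f2) := by
    rw [c1, gt₂]
    have : j π * (t * j (E f2)) = (t * j (E f2)) * j π := by
      rw [← mul_assoc, ← h.comm, mul_assoc, ← map_mul, hπk, map_mul, mul_assoc]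
    rw [this, mul_inv_cancel_right]
  have e2 : (j π * g₂) * j (E f2) * (j π * g₂)⁻¹ = j (E f2) := by
    rw [c1, gk₂, ← map_mul, hπk, map_mul, mul_inv_cancel_right]
  have e3 : (j π * g₂) * j (swap 8 9) * (j π * g₂)⁻¹ = j (κ₂ * η₁) := by
    rw [c1, ge₂, ← map_mul, ← map_inv, ← map_mul]
    congr 1
    rw [← hπη]
    calc π * (κ₂ * η₂) * π⁻¹ = (π * κ₂) * η₂ * π⁻¹ := by group
      _ = κ₂ * (π * η₂ * π⁻¹) := by rw [hπκ]; group
  have q3' : E f1 * E f2 = E f2 * E f1 := by rw [← map_mul, q3, map_mul]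
  obtain ⟨m, m1, m2, m3, m4, m5, m6, m7⟩ := pair h kk₁ kk₂ k1 k2 (hsign _ f_sign.1) (hsign _ f_sign.2) q3'
    (fun e => q4 (hEinj e)) hfix
    ⟨E fv, E fr, by rw [← map_mul, f_comm1.1, map_mul], by rw [← map_mul, f_comm1.2, map_mul], by
      rw [commutatorElement_def, ← map_inv, ← map_inv, ← map_mul, ← map_mul, ← map_mul, f_br1, map_mul]⟩
    ⟨E (fs * fv * fs⁻¹), E (fs * fr * fs⁻¹), by rw [← map_mul, f_comm2.1, map_mul],
      by rw [← map_mul, f_comm2.2, map_mul], by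
      rw [commutatorElement_def, ← map_inv, ← map_inv, ← map_mul, ← map_mul, ← map_mul, f_br2, map_mul]⟩
    (by rw [hfixcard f1 q7]; norm_num) (by rw [hfixcard f1 q7]; exact htype) hpq ((hEfix f1 q7 8).2 hp8)
    ((hEfix f1 q7 9).2 hp9) gt₁ gk₁ e1 e2 hκ₁ hκ₂ ge₁ e3
  exact ⟨m, 8, 9, m1, m2, m3, m4, hpq, m5, m6, m7⟩

end Cfsg.Agent.OddHalf.D5.Sym
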