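import Cfsg.Agent.OddHalf.D5.Sym.Match
import Cfsg.Agent.OddHalf.D5.Sym.Count
import Cfsg.Agent.OddHalf.NI.LemmaP
import Cfsg.Agent.Lib.PSL2Torus
import Cfsg.Agent.FixBN.BTheorem
import Cfsg.Agent.OddHalf.Iface

/-!
# ODD D5, `C_G(t) = ⟨t⟩ × S_n`, `n ≥ 9`: the components of `C(e)` or `C(te)`, `e` a transposition

`LL j e = j (Alt(Ω - e))`. `GoodJ t j e s J`: `J` is a component of `C(s)`, `J ≠ J^t` and `LL j e = {x x^t : x ∈ J}`.

* `comp_in`: `LL j e` is a component of `C(s) ∩ C(t)`, `s ∈ {e, te}`.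
* `pump`: the component of `C(s)` over `LL j e`.
* `no_big`: no component `D = D^g` of `C(s)` contains `LL j e`, `t^g = t k`.
* `exists_good`: after a change of the complement, `GoodJ t j e (j e) J` for all transpositions `e`.
-/

set_option autoImplicit false
set_option linter.unusedSectionVars false
set_option linter.style.haveILetI false

namespace Cfsg.Agent.OddHalf.D5.Sym

open Subgroup Equiv Cfsg Cfsg.Agent.SignalizersComponents Cfsg.Agent.OddHalf.D3 Cfsg.Agent.OddHalf.NI
open Cfsg.Agent.OddHalf.D5.QPerm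

variable {G : Type*} [Group G] {n : ℕ} {t : G} {j : Perm (Fin n) →* G}

/-- `j (Alt(Ω - e))` -/
def LL (j : Perm (Fin n) →* G) (e : Perm (Fin n)) : Subgroup G := (FA e).map j

theorem mem_LL {j : Perm (Fin n) →* G} {e : Perm (Fin n)} {x : G} : x ∈ LL j e ↔ ∃ a ∈ FA e, j a = x := Iff.rfl

/-- `J` is a component of `C(s)` and `LL j e` is the diagonal of `J J^t`, `J ≠ J^t`. -/
structure GoodJ (t : G) (j : Perm (Fin n) →* G) (e : Perm (Fin n)) (s : G) (J : Subgroup G) : Prop where
  comp : Comp s J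
  dg : Dg (LL j e) J t

section FA

theorem fix_swap_card {p q : Fin n} (hpq : p ≠ q) : Fintype.card {a // swap p q a = a} = n - 2 := by
  rw [Fintype.card_subtype]
  have h1 : (swap p q).support = Finset.univ.filter fun a => ¬ (swap p q a = a) := by
    ext a; simp [Perm.mem_support]
  have h2 : (Finset.univ.filter fun a => swap p q a = a).card + (swap p q).support.card = n := by
    rw [h1, Finset.card_filter_add_card_filter_not, Finset.card_univ, Fintype.card_fin]
  rw [Perm.card_support_swap hpq] at h2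
  omega

/-- `FA e ≅ Alt(Ω - e)` -/
noncomputable def FAequiv (e : Perm (Fin n)) : alternatingGroup {a // e a = a} ≃* FA e :=
  ((alternatingGroup {a // e a = a}).equivMapOfInjective _ Perm.ofSubtype_injective).trans
    (MulEquiv.subgroupCongr (FA_eq_map e).symm)

theorem quasi_FA (hn : 7 ≤ n) {p q : Fin n} (hpq : p ≠ q) : IsQuasisimple (FA (swap p q)) := by
  have h5 : 5 ≤ Nat.card {a // swap p q a = a} := by
    rw [Nat.card_eq_fintype_card, fix_swap_card hpq]; omega
  have hs : IsSimpleGroup (alternatingGroup {a // swap p q a = a}) := alternatingGroup.isSimpleGroup h5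
  have hna : ¬ IsMulCommutative (alternatingGroup {a // swap p q a = a}) := by
    intro hc
    have h1 : center (alternatingGroup {a // swap p q a = a}) = ⊥ :=
      alternatingGroup.center_eq_bot (by omega)
    have h2 : center (alternatingGroup {a // swap p q a = a}) = ⊤ := by
      rw [eq_top_iff]
      intro x _
      rw [mem_center_iff]
      intro g
      exact hc.is_comm.comm g x
    have h3 : (⊥ : Subgroup (alternatingGroup {a // swap p q a = a})) = ⊤ := by rw [← h1, h2]
    exact bot_ne_top h3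
  exact Components.isQuasisimple_of_mulEquiv (FAequiv _) (FixBN.BTheorem.isQuasisimple_of_simple hna)

theorem card_FA_swap (hn : 4 ≤ n) {p q : Fin n} (hpq : p ≠ q) : 2 * Nat.card (FA (swap p q)) = (n - 2).factorial := by
  have h1 : (Finset.univ.filter fun a => swap p q a = a).card = n - 2 := by
    rw [← fix_swap_card hpq, Fintype.card_subtype]
  rw [card_FA _ (by rw [h1]; omega), h1]

end FA

section LL

variable (h : Sp t j)

include h

theorem Sp.LL_equiv (e : Perm (Fin n)) : Nonempty (FA e ≃* LL j e) :=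
  ⟨(FA e).equivMapOfInjective j h.inj⟩

theorem Sp.quasi_LL (hn : 7 ≤ n) {p q : Fin n} (hpq : p ≠ q) : IsQuasisimple (LL j (swap p q)) := by
  obtain ⟨f⟩ := h.LL_equiv (swap p q)
  exact Components.isQuasisimple_of_mulEquiv f (quasi_FA hn hpq)

theorem Sp.card_LL (hn : 4 ≤ n) {p q : Fin n} (hpq : p ≠ q) :
    2 * Nat.card (LL j (swap p q)) = (n - 2).factorial := by
  obtain ⟨f⟩ := h.LL_equiv (swap p q)
  rw [← Nat.card_congr f.toEquiv, card_FA_swap hn hpq]

theorem Sp.two_dvd_LL (hn : 7 ≤ n) {p q : Fin n} (hpq : p ≠ q) : 2 ∣ Nat.card (LL j (swap p q)) := by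
  have h1 := h.card_LL (by omega) hpq
  have h2 : 4 ∣ (n - 2).factorial := (by decide : 4 ∣ Nat.factorial 4).trans (Nat.factorial_dvd_factorial (by omega))
  omega

theorem Sp.t_comm_LL {e : Perm (Fin n)} {x : G} (hx : x ∈ LL j e) : x * t = t * x := by
  obtain ⟨a, _, rfl⟩ := hx
  exact (h.comm a).symm

/-- `s ∈ {e, te}` has order two -/
theorem Sp.order_s {p q : Fin n} (hpq : p ≠ q) {z : G} (hz : z = 1 ∨ z = t) :
    orderOf (z * j (swap p q)) = 2 := by
  apply orderOf_eq_prime
  · rw [pow_two]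
    calc z * j (swap p q) * (z * j (swap p q)) = z * (j (swap p q) * z) * j (swap p q) := by group
      _ = (z * z) * (j (swap p q) * j (swap p q)) := by rw [← h.zcomm hz]; group
      _ = 1 := by rw [h.zz hz, ← map_mul, swap_mul_self, map_one, one_mul]
  · intro h1
    have h2 := h.uniq hz (b := 1) (by rw [h1, map_one])
    have h3 := congrArg (fun g : Perm (Fin n) => g p) h2.2
    simp only [swap_apply_left, Perm.one_apply] at h3
    exact hpq h3.symm

theorem Sp.order_t : orderOf t = 2 := orderOf_eq_prime (by rw [pow_two, h.tt]) h.t1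

theorem Sp.ts {z : G} (hz : z = 1 ∨ z = t) (e : Perm (Fin n)) : z * j e * t = t * (z * j e) := by
  rcases hz with rfl | rfl
  · rw [one_mul, h.comm]
  · rw [mul_assoc, ← h.comm]

theorem Sp.zj_comm {z : G} (hz : z = 1 ∨ z = t) {a e : Perm (Fin n)} (ha : a * e = e * a) :
    j a * (z * j e) = z * j e * j a := by
  rw [← mul_assoc, ← h.zcomm hz, mul_assoc, mul_assoc, ← map_mul, ← map_mul, ha]

/-- **(a1)** -/
theorem Sp.comp_in (hn : 7 ≤ n) {p q : Fin n} (hpq : p ≠ q) {z : G} (hz : z = 1 ∨ z = t) :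
    CompIn (centralizer ({z * j (swap p q)} : Set G) ⊓ centralizer ({t} : Set G)) (LL j (swap p q)) := by
  have ee : swap p q * swap p q = 1 := swap_mul_self p q
  have hle : LL j (swap p q) ≤ centralizer ({z * j (swap p q)} : Set G) ⊓ centralizer ({t} : Set G) := by
    rintro x ⟨a, ha, rfl⟩
    exact ⟨mem_cs.2 (h.zj_comm hz (FA_comm ee ha)), mem_cs.2 (h.comm a).symm⟩
  refine ⟨hle, ?_, ?_⟩
  · have hN : ((LL j (swap p q)).subgroupOf
        (centralizer ({z * j (swap p q)} : Set G) ⊓ centralizer ({t} : Set G))).Normal := by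
      refine ⟨fun x hx g => ?_⟩
      rw [mem_subgroupOf] at hx ⊢
      obtain ⟨a, ha, hax⟩ := hx
      have hgt : (g : G) * t = t * g := mem_cs.1 g.2.2
      have hgs : (g : G) * (z * j (swap p q)) = z * j (swap p q) * g := mem_cs.1 g.2.1
      have hge : (g : G) * j (swap p q) = j (swap p q) * g := by
        rcases hz with rfl | rfl
        · simpa using hgs
        · rw [← mul_assoc, hgt, mul_assoc, mul_assoc] at hgs
          exact mul_left_cancel hgs
      obtain ⟨y, c, hy, hc, hce⟩ := h.cent_k hgt hge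
      refine ⟨c * a * c⁻¹, FA_conj hce ha, ?_⟩
      show j (c * a * c⁻¹) = (g : G) * x * (g : G)⁻¹
      rw [← hax, hc, h.conj_j hy]
    exact hN.isSubnormal
  · exact Components.isQuasisimple_of_mulEquiv (Subgroup.subgroupOfEquivOfLe hle).symm (h.quasi_LL hn hpq)

end LL

/-- The pump-up in `C(e)` of a component of `C(e) ∩ C(z)` of even order. -/
theorem pump3 [Finite G] (hB : BL G) {e z : G} (he : orderOf e = 2) (hz : orderOf z = 2)
    (hez : e * z = z * e) {K : Subgroup G}
    (hK : CompIn (centralizer ({e} : Set G) ⊓ centralizer ({z} : Set G)) K) (h2K : 2 ∣ Nat.card K) :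
    ∃ D : Subgroup G, Comp e D ∧ (K = D ∨ (K < D ∧ cj z D = D) ∨ Dg K D z) := by
  set Y : Subgroup G := centralizer ({e} : Set G) with hY
  have hzY : z ∈ Y := mem_cs.mpr hez.symm
  have hKY : K ≤ Y := hK.le.trans inf_le_left
  have hKz : K ≤ centralizer ({z} : Set G) := hK.le.trans inf_le_right
  have hzK : z ∈ centralizer (K : Set G) := by
    rw [mem_centralizer_iff]
    intro x hx
    exact mem_cs.mp (hKz hx)
  have h1 : Comp (⟨z, hzY⟩ : Y) (K.subgroupOf Y) := hK.comp_of hzY
  have hz' : orderOf (⟨z, hzY⟩ : Y) = 2 := by rw [Subgroup.orderOf_mk, hz]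
  have h2 : 2 ∣ Nat.card (K.subgroupOf Y) := by
    rw [Nat.card_congr (Subgroup.subgroupOfEquivOfLe hKY).toEquiv]
    exact h2K
  have h3 := le_layer (hB e he) hz' h1 h2
  have hsq : (⟨z, hzY⟩ : Y) * ⟨z, hzY⟩ = 1 := sq_of_order hz'
  obtain ⟨D, hD, hcase⟩ := trichotomy_of_le_layer (⟨z, hzY⟩ : Y) hsq (K.subgroupOf Y) h1 h3
  have hDc : Comp e (D.map Y.subtype) := comp_map hD
  refine ⟨D.map Y.subtype, hDc, ?_⟩
  have hKm : (K.subgroupOf Y).map Y.subtype = K := Subgroup.map_subgroupOf_eq_of_le hKY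
  have hlt : ∀ D' : Subgroup G, Comp e D' → K ≤ D' → cj z D' = D' := by
    intro D' hD' hle
    by_contra hne
    have h4 := hD'.comm (hD'.conj_of_comm hez.symm) (fun h => hne h.symm)
    apply not_comm_self hK.quasi
    intro x hx
    rw [mem_centralizer_iff]
    intro y hy
    have hy' : y ∈ cj z D' := by
      have := conj_mem_cj (g := z) (hle hy)
      rwa [← mem_centralizer_iff.mp hzK y hy, mul_inv_cancel_right] at this
    exact (comm_elt h4 (hle hx) hy').symm
  rcases hcase with h | h | ⟨h4, h5, h6⟩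
  · left
    rw [← h, hKm]
  · right; left
    have := (Subgroup.map_lt_map_iff_of_injective (Subgroup.subtype_injective Y)).mpr h
    rw [hKm] at this
    exact ⟨this, hlt _ hDc this.le⟩
  · right; right
    have hne : cj z (D.map Y.subtype) ≠ D.map Y.subtype := by
      intro h7
      apply h4
      have h8 := cj_map_subtype D (⟨z, hzY⟩ : Y)
      change (cj (⟨z, hzY⟩ : Y) D).map Y.subtype = cj z (D.map Y.subtype) at h8
      rw [h7] at h8
      exact Subgroup.map_injective (Subgroup.subtype_injective Y) h8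
    refine ⟨hDc.quasi, sq_of_order hz, hzK, hne,
      hDc.comm (hDc.conj_of_comm hez.symm) (fun h => hne h.symm), ?_, ?_⟩
    · rintro _ ⟨d, hd, rfl⟩
      exact h5 d hd
    · intro k hk
      obtain ⟨d, hd, hkd⟩ := h6 ⟨k, hKY hk⟩ hk
      exact ⟨d, ⟨d, hd, rfl⟩, congrArg Subtype.val hkd⟩

/-- **(a)** -/
theorem Sp.pump [Finite G] (hB : BL G) (h : Sp t j) (hn : 7 ≤ n) {p q : Fin n} (hpq : p ≠ q) {z : G}
    (hz : z = 1 ∨ z = t) : ∃ D : Subgroup G, Comp (z * j (swap p q)) D ∧ (LL j (swap p q) = D ∨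
      (LL j (swap p q) < D ∧ cj t D = D) ∨ Dg (LL j (swap p q)) D t) :=
  pump3 hB (h.order_s hpq hz) h.order_t (h.ts hz _) (h.comp_in hn hpq hz) (h.two_dvd_LL hn hpq)

/-! ### `L₂(q)` -/

/-- seven letters outside of `{p, q}` -/
theorem exists_seven (hn : 9 ≤ n) {p q : Fin n} (hpq : p ≠ q) :
    ∃ φ : Perm (Fin 7) →* Perm (Fin n), Function.Injective φ ∧ (∀ a, Perm.sign a = 1 → φ a ∈ FA (swap p q)) := by
  classical
  have h7 : Fintype.card (Fin 7) ≤ Fintype.card {a // swap p q a = a} := by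
    rw [fix_swap_card hpq, Fintype.card_fin]; omega
  obtain ⟨v⟩ := Function.Embedding.nonempty_of_card_le h7
  let w : Fin 7 ↪ Fin n := v.trans (Function.Embedding.subtype _)
  let f : Fin 7 ≃ {x // x ∈ Set.range w} := Equiv.ofInjective w w.injective
  refine ⟨Perm.extendDomainHom f, Perm.extendDomainHom_injective f, fun a ha => mem_FA.2 ⟨?_, fun x hx => ?_⟩⟩
  · show Perm.sign (Perm.extendDomain a f) = 1
    rw [Perm.sign_extendDomain, ha]
  · show (Perm.extendDomain a f) x = x
    apply Perm.extendDomain_apply_not_subtype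
    rintro ⟨i, rfl⟩
    exact hx (v i).2

/-- A group `L` containing `LL j e` is not `L₂(q)`, `q` odd. -/
theorem Sp.not_L2 (h : Sp t j) (hn : 9 ≤ n) {p q : Fin n} (hpq : p ≠ q) {L : Subgroup G}
    (hL : LL j (swap p q) ≤ L) : ¬ Iface.IsL2o ↥L := by
  rintro ⟨F, _, _, hodd, -, ⟨e⟩⟩
  have h2 : (2 : F) ≠ 0 := by
    intro h0
    have hc : CharP F 2 := CharTwo.of_one_ne_zero_of_two_eq_zero one_ne_zero h0
    have h3 := FiniteField.even_card_of_char_two (F := F) ((ringChar.eq_iff (R := F)).2 hc)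
    have h4 := Nat.odd_iff.1 hodd
    omega
  obtain ⟨φ, hφ, hs⟩ := exists_seven hn hpq
  set a : Perm (Fin 7) := swap 0 1 * swap 2 3 with ha
  set b : Perm (Fin 7) := swap 0 2 * swap 1 3 with hb
  set c : Perm (Fin 7) := swap 4 5 * swap 5 6 with hc
  have sa : Perm.sign a = 1 := by decide +kernel
  have sb : Perm.sign b = 1 := by decide +kernel
  have sc : Perm.sign c = 1 := by decide +kernel
  have aa : a * a = 1 := by decide +kernel
  have bb : b * b = 1 := by decide +kernel
  have ab : b * a = a * b := by decide +kernel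
  have ca : c * a = a * c := by decide +kernel
  have cb : c * b = b * c := by decide +kernel
  have a1 : a ≠ 1 := by decide +kernel
  have b1 : b ≠ 1 := by decide +kernel
  have ba : b ≠ a := by decide +kernel
  have c1 : c ≠ 1 := by decide +kernel
  have cna : c ≠ a := by decide +kernel
  have cnb : c ≠ b := by decide +kernel
  have cnab : c ≠ a * b := by decide +kernel
  let ψ : Perm (Fin 7) →* G := j.comp φ
  have hψ : Function.Injective ψ := h.inj.comp hφ
  have mL : ∀ x, Perm.sign x = 1 → ψ x ∈ L := fun x hx => hL (mem_map_of_mem j (hs x hx))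
  obtain ⟨T, m, hT, -⟩ := Lib.PSL2Torus.exists_torus h2 e (t := ⟨ψ a, mL a sa⟩)
    (fun e => a1 (hψ (by rw [map_one]; exact congrArg Subtype.val e)))
    (Subtype.ext (by
      show ψ a * ψ a = 1
      rw [← map_mul, aa, map_one]))
  have h5 := hT.centralizer_four (u := ⟨ψ b, mL b sb⟩) (x := ⟨ψ c, mL c sc⟩)
    (fun e => b1 (hψ (by rw [map_one]; exact congrArg Subtype.val e)))
    (Subtype.ext (by
      show ψ b * ψ b = 1
      rw [← map_mul, bb, map_one]))
    (fun e => ba (hψ (congrArg Subtype.val e)))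
    (Subtype.ext (by
      show ψ b * ψ a = ψ a * ψ b
      rw [← map_mul, ab, map_mul]))
    (Subtype.ext (by
      show ψ c * ψ a = ψ a * ψ c
      rw [← map_mul, ca, map_mul]))
    (Subtype.ext (by
      show ψ c * ψ b = ψ b * ψ c
      rw [← map_mul, cb, map_mul]))
  rcases h5 with h5 | h5 | h5 | h5
  · exact c1 (hψ (by rw [map_one]; exact congrArg Subtype.val h5))
  · exact cna (hψ (congrArg Subtype.val h5))
  · exact cnb (hψ (congrArg Subtype.val h5))
  · exact cnab (hψ (by rw [map_mul ψ a b]; exact congrArg Subtype.val h5))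

/-! ### The count -/

/-- `LL j e ∩ (LL j e)^g` commutes with `k` -/
theorem Sp.card_inf_le [Finite G] (h : Sp t j) {p q : Fin n} (hpq : p ≠ q) {g : G} {k : Perm (Fin n)}
    (gt : g * t * g⁻¹ = t * j k) (kk : k * k = 1) (k1 : k ≠ 1) (hk : ∀ a, swap p q a ≠ a → k a = a) :
    2 * Nat.card ↥(LL j (swap p q) ⊓ cj g (LL j (swap p q))) ≤
      (n - 2 - 2 * (k.support.card / 2)).factorial *
        (2 ^ (k.support.card / 2) * (k.support.card / 2).factorial) := by
  classical
  obtain ⟨k', hk'⟩ := exists_sub (k := swap p q) (σ := k) hk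
  have kk' : k' * k' = 1 := by
    apply Perm.ofSubtype_injective
    rw [map_mul, hk', kk, map_one]
  have k1' : k' ≠ 1 := by
    rintro rfl
    rw [map_one] at hk'
    exact k1 hk'.symm
  have hsupp : k'.support.card = k.support.card := by
    rw [← hk', Perm.support_ofSubtype, Finset.card_map]
  have hle : LL j (swap p q) ⊓ cj g (LL j (swap p q)) ≤
      ((alternatingGroup {a // swap p q a = a} ⊓ centralizer ({k'} : Set _)).map
        (Perm.ofSubtype : Perm {a // swap p q a = a} →* Perm (Fin n))).map j := by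
    rintro x ⟨hx, hx'⟩
    obtain ⟨a, ha, rfl⟩ := hx
    obtain ⟨b, hb, hb'⟩ := mem_cj.1 (show j a ∈ cj g (LL j (swap p q)) from hx')
    have h1 : j a * (t * j k) = t * j k * j a := by
      have h2 : j a = g * j b * g⁻¹ := by rw [hb']; group
      rw [← gt, h2]
      calc g * j b * g⁻¹ * (g * t * g⁻¹) = g * (j b * t) * g⁻¹ := by group
        _ = g * (t * j b) * g⁻¹ := by rw [h.comm]
        _ = g * t * g⁻¹ * (g * j b * g⁻¹) := by group
    have h3 : a * k = k * a := by
      apply h.inj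
      rw [map_mul, map_mul]
      rw [← mul_assoc, ← h.comm, mul_assoc, mul_assoc] at h1
      exact mul_left_cancel h1
    rw [SetLike.mem_coe, FA_eq_map] at ha
    obtain ⟨a', ha', rfl⟩ := ha
    refine mem_map_of_mem j (mem_map_of_mem _ (mem_inf.2 ⟨ha', mem_centralizer_singleton_iff.2 ?_⟩))
    apply Perm.ofSubtype_injective
    rw [map_mul, map_mul, hk']
    exact h3
  have h1 : Nat.card ↥(LL j (swap p q) ⊓ cj g (LL j (swap p q))) ≤
      Nat.card ↥(alternatingGroup {a // swap p q a = a} ⊓ centralizer ({k'} : Set _)) := by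
    refine (Subgroup.card_le_of_le hle).trans ?_
    rw [map_map]
    exact Nat.card_le_card_of_surjective _
      ((alternatingGroup {a // swap p q a = a} ⊓ centralizer ({k'} : Set _)).equivMapOfInjective _
        (h.inj.comp Perm.ofSubtype_injective)).surjective
  have h2 := two_mul_card_cent kk' k1'
  rw [card_cent kk' k1', fix_swap_card hpq, hsupp] at h2
  omega

/-- **(b)** -/
theorem Sp.no_big [Finite G] (h : Sp t j) (hn : 9 ≤ n) {p q : Fin n} (hpq : p ≠ q) {D : Subgroup G}
    (hmax : ¬ Iface.IsL2o ↥D → 2 * Nat.card D ≤ n.factorial) (hLD : LL j (swap p q) ≤ D) {g : G}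
    {k : Perm (Fin n)} (gD : cj g D = D) (gt : g * t * g⁻¹ = t * j k) (kk : k * k = 1) (k4 : 4 ≤ k.support.card)
    (hk : ∀ a, swap p q a ≠ a → k a = a) : False := by
  classical
  have k1 : k ≠ 1 := by
    rintro rfl
    rw [Perm.support_one, Finset.card_empty] at k4
    omega
  have h1 := hmax (h.not_L2 hn hpq hLD)
  have hLD' : cj g (LL j (swap p q)) ≤ D := by
    rw [← gD]; exact cj_mono hLD
  have h2 := card_mul_le hLD hLD'
  rw [card_cj] at h2
  have h3 := h.card_inf_le hpq gt kk k1 hk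
  have h4 := h.card_LL (by omega) hpq
  -- the support
  have h5 : 2 * (k.support.card / 2) ≤ n - 2 := by
    obtain ⟨k', hk'⟩ := exists_sub (k := swap p q) (σ := k) hk
    have hsupp : k'.support.card = k.support.card := by
      rw [← hk', Perm.support_ofSubtype, Finset.card_map]
    have h6 : k'.support.card ≤ Fintype.card {a // swap p q a = a} := by
      rw [← Finset.card_univ]; exact Finset.card_le_card (Finset.subset_univ _)
    rw [fix_swap_card hpq, hsupp] at h6
    omega
  have h6 := count (n - 2) (k.support.card / 2) (by omega) (by omega) h5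
  set C := (n - 2 - 2 * (k.support.card / 2)).factorial *
        (2 ^ (k.support.card / 2) * (k.support.card / 2).factorial) with hC
  have h7 : n.factorial = (n - 2 + 2) * (n - 2 + 1) * (n - 2).factorial := by
    obtain ⟨m, rfl⟩ := Nat.exists_eq_add_of_le (show 2 ≤ n by omega)
    have e1 : 2 + m - 2 = m := by omega
    rw [e1, add_comm 2 m, Nat.factorial_succ (m + 1), Nat.factorial_succ m]
    ring
  set ℓ := Nat.card (LL j (swap p q))
  set c := Nat.card ↥(LL j (swap p q) ⊓ cj g (LL j (swap p q)))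
  set M := (n - 2).factorial with hM
  have hMpos : 0 < M := Nat.factorial_pos _
  have h8 : M * M ≤ M * ((n - 2 + 2) * (n - 2 + 1) * C) := by
    calc M * M = 4 * (ℓ * ℓ) := by rw [← h4]; ring
      _ ≤ 4 * (Nat.card D * c) := Nat.mul_le_mul_left _ h2
      _ = (2 * Nat.card D) * (2 * c) := by ring
      _ ≤ n.factorial * C := Nat.mul_le_mul h1 h3
      _ = M * ((n - 2 + 2) * (n - 2 + 1) * C) := by rw [h7]; ring
  have h9 := Nat.le_of_mul_le_mul_left h8 hMpos
  omega

/-- an even `k ≠ 1` in `LL j e` does not centralize `LL j e` -/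
theorem exists_not_comm (hn : 9 ≤ n) {p q : Fin n} (hpq : p ≠ q) {k : Perm (Fin n)} (hk : k ∈ FA (swap p q)) (k1 : k ≠ 1) :
    ∃ a ∈ FA (swap p q), a * k ≠ k * a := by
  by_contra hcon
  push Not at hcon
  have hq := quasi_FA (n := n) (by omega) hpq
  have h5 : 5 ≤ Nat.card {a // swap p q a = a} := by
    rw [Nat.card_eq_fintype_card, fix_swap_card hpq]; omega
  have h1 : center (alternatingGroup {a // swap p q a = a}) = ⊥ :=
    alternatingGroup.center_eq_bot (by omega)
  have hk' := hk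
  rw [FA_eq_map] at hk'
  obtain ⟨k', hk1, hk2⟩ := hk'
  have h2 : (⟨k', hk1⟩ : alternatingGroup {a // swap p q a = a}) ∈ center (alternatingGroup {a // swap p q a = a}) := by
    rw [mem_center_iff]
    rintro ⟨g, hg⟩
    apply Subtype.ext
    apply Perm.ofSubtype_injective
    show Perm.ofSubtype (g * k') = Perm.ofSubtype (k' * g)
    rw [map_mul, map_mul, hk2]
    apply hcon
    rw [FA_eq_map]
    exact mem_map_of_mem _ hg
  rw [h1, mem_bot] at h2
  have h3 : k' = 1 := congrArg Subtype.val h2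
  apply k1
  rw [← hk2, h3, map_one]

/-- **(c)** -/
theorem Sp.cj_eq (h : Sp t j) (hn : 9 ≤ n) {p q : Fin n} (hpq : p ≠ q) {s : G} {D : Subgroup G} (hD : Comp s D)
    (hLD : LL j (swap p q) ≤ D) {g : G} {k : Perm (Fin n)} (gs : g * s = s * g) (gk : g * j k * g⁻¹ = j k)
    (hk : k ∈ FA (swap p q)) (k1 : k ≠ 1) : cj g D = D := by
  by_contra hne
  have h1 := hD.comm (hD.conj_of_comm gs) (fun e => hne e.symm)
  obtain ⟨a, ha, hak⟩ := exists_not_comm hn hpq hk k1
  apply hak
  apply h.inj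
  rw [map_mul, map_mul]
  apply comm_elt h1 (hLD (mem_map_of_mem j ha))
  rw [← gk]
  exact conj_mem_cj (hLD (mem_map_of_mem j hk))

/-- **(d)**, one transposition -/
theorem Sp.exists_goodJ [Finite G] (hB : BL G) (h : Sp t j) (hn : 9 ≤ n) {k : Perm (Fin n)} (kk : k * k = 1)
    (k1 : k ≠ 1) (s : Perm.sign k = 1) {p q : Fin n} (hpq : p ≠ q) (hp : k p = p)
    (hq : k q = q) (hmat : Mat t j k p q)
    (hmax : ∀ (s : G) (D : Subgroup G), orderOf s = 2 → Comp s D → ¬ Iface.IsL2o ↥D →
      2 * Nat.card D ≤ n.factorial) :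
    ∃ z J, (z = 1 ∨ z = t) ∧ GoodJ t j (swap p q) (z * j (swap p q)) J := by
  obtain ⟨g, gt, gk, ge⟩ := hmat
  obtain ⟨z, hz, gs⟩ : ∃ z, (z = 1 ∨ z = t) ∧ g * (z * j (swap p q)) * g⁻¹ = z * j (swap p q) := by
    rcases ge with ge | ge
    · exact ⟨1, Or.inl rfl, by rw [one_mul]; exact ge⟩
    · exact ⟨t, Or.inr rfl, ge⟩
  have gs' : g * (z * j (swap p q)) = z * j (swap p q) * g := mul_inv_eq_iff_eq_mul.1 gs
  have hkF : k ∈ FA (swap p q) := by
    refine mem_FA.2 ⟨s, fun a ha => ?_⟩
    by_cases h1 : a = p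
    · rw [h1, hp]
    by_cases h2 : a = q
    · rw [h2, hq]
    exact absurd (swap_apply_of_ne_of_ne h1 h2) ha
  have k4 : 4 ≤ k.support.card := by
    obtain ⟨c, hc'⟩ := four_dvd_support kk s
    rcases Nat.eq_zero_or_pos c with h0 | h0
    · rw [h0, mul_zero] at hc'
      exact absurd (Perm.card_support_eq_zero.1 hc') k1
    · omega
  have key : ∀ D : Subgroup G, Comp (z * j (swap p q)) D → ¬ LL j (swap p q) ≤ D := by
    intro D hD hLD
    exact h.no_big hn hpq (hmax _ D (h.order_s hpq hz) hD) hLD (h.cj_eq hn hpq hD hLD gs' gk hkF k1) gt kk k4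
      (mem_FA.1 hkF).2
  obtain ⟨D, hD, hcase⟩ := h.pump hB (by omega) hpq hz
  rcases hcase with h1 | ⟨h1, -⟩ | h1
  · exact absurd h1.le (key D hD)
  · exact absurd h1.le (key D hD)
  · exact ⟨z, D, hz, hD, h1⟩

/-! ### All the transpositions -/

theorem LL_conj {j : Perm (Fin n) →* G} {e c : Perm (Fin n)} : cj (j c) (LL j e) = LL j (c * e * c⁻¹) := by
  ext x
  rw [mem_cj]
  constructor
  · rintro ⟨a, ha, hax⟩
    refine ⟨c * a * c⁻¹, FA_conj' c ha, ?_⟩
    rw [map_mul, map_mul, map_inv, hax]; group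
  · rintro ⟨a, ha, rfl⟩
    refine ⟨c⁻¹ * a * c, ?_, by rw [map_mul, map_mul, map_inv]⟩
    have := FA_conj' c⁻¹ ha
    have e1 : c⁻¹ * (c * e * c⁻¹) * c⁻¹⁻¹ = e := by group
    rw [e1, inv_inv] at this
    exact this

theorem GoodJ.conj (h : Sp t j) {e : Perm (Fin n)} {s : G} {J : Subgroup G} (H : GoodJ t j e s J) (c : Perm (Fin n)) :
    GoodJ t j (c * e * c⁻¹) (j c * s * (j c)⁻¹) (cj (j c) J) := by
  have ht : t * j c = j c * t := h.comm c
  have hcj : ∀ A : Subgroup G, cj t (cj (j c) A) = cj (j c) (cj t A) := by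
    intro A
    rw [D3.cj_cj, D3.cj_cj, ht]
  refine ⟨H.comp.conj _, ?_, H.dg.xx, ?_, ?_, ?_, ?_, ?_⟩
  · exact (H.comp.conj (j c)).quasi
  · rw [mem_centralizer_iff]
    rintro x ⟨a, _, rfl⟩
    exact (h.comm a).symm
  · intro h1
    rw [hcj] at h1
    exact H.dg.ne (cj_injective _ h1)
  · rw [hcj]
    exact comm_cj H.dg.comm
  · rintro x hx
    rw [mem_cj] at hx
    have h1 := H.dg.mem _ hx
    rw [← LL_conj, mem_cj]
    have e1 : (j c)⁻¹ * (x * (t * x * t⁻¹)) * j c =
        (j c)⁻¹ * x * j c * (t * ((j c)⁻¹ * x * j c) * t⁻¹) := by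
      have e2 : t * (j c)⁻¹ = (j c)⁻¹ * t := by
        rw [eq_inv_mul_iff_mul_eq, ← mul_assoc, ← ht, mul_inv_cancel_right]
      calc (j c)⁻¹ * (x * (t * x * t⁻¹)) * j c = (j c)⁻¹ * x * j c * ((j c)⁻¹ * t) * x * (t⁻¹ * j c) := by group
        _ = (j c)⁻¹ * x * j c * (t * (j c)⁻¹) * x * ((j c)⁻¹ * t)⁻¹ := by rw [e2]; group
        _ = (j c)⁻¹ * x * j c * (t * (j c)⁻¹) * x * (t * (j c)⁻¹)⁻¹ := by rw [e2]
        _ = (j c)⁻¹ * x * j c * (t * ((j c)⁻¹ * x * j c) * t⁻¹) := by group
    rw [e1]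
    exact h1
  · intro x hx
    rw [← LL_conj, mem_cj] at hx
    obtain ⟨d, hd, hxd⟩ := H.dg.ex _ hx
    refine ⟨j c * d * (j c)⁻¹, conj_mem_cj hd, ?_⟩
    have e3 : x = j c * (d * (t * d * t⁻¹)) * (j c)⁻¹ := by rw [← hxd]; group
    rw [e3]
    calc j c * (d * (t * d * t⁻¹)) * (j c)⁻¹ = j c * d * (j c)⁻¹ * (j c * t) * d * (j c * t)⁻¹ := by group
      _ = j c * d * (j c)⁻¹ * (t * j c) * d * (t * j c)⁻¹ := by rw [ht]
      _ = j c * d * (j c)⁻¹ * (t * (j c * d * (j c)⁻¹) * t⁻¹) := by group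

/-- The other complement. -/
def twist (t : G) (h : t * t = 1) (j : Perm (Fin n) →* G) (hc : ∀ a, t * j a = j a * t) : Perm (Fin n) →* G where
  toFun a := (if Perm.sign a = 1 then 1 else t) * j a
  map_one' := by simp
  map_mul' := by
    intro a b
    have h1 : (-1 : ℤˣ) ≠ 1 := by decide
    have h2 : (-1 : ℤˣ) * -1 = 1 := by decide
    rcases Int.units_eq_one_or (Perm.sign a) with ha | ha <;>
    rcases Int.units_eq_one_or (Perm.sign b) with hb | hb
    · simp only [map_mul, ha, hb, if_true, one_mul]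
    · simp only [map_mul, ha, hb, if_true, one_mul, if_neg h1]
      rw [← mul_assoc, hc a, mul_assoc]
    · simp only [map_mul, ha, hb, if_true, mul_one, if_neg h1, mul_assoc, one_mul]
    · simp only [map_mul, ha, hb, h2, if_true, if_neg h1, one_mul]
      calc j a * j b = (t * t) * j a * j b := by rw [h, one_mul]
        _ = t * (t * j a) * j b := by group
        _ = t * (j a * t) * j b := by rw [hc a]
        _ = t * j a * (t * j b) := by group

theorem twist_apply (t : G) (h : t * t = 1) (j : Perm (Fin n) →* G) (hc : ∀ a, t * j a = j a * t) (a) :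
    twist t h j hc a = (if Perm.sign a = 1 then 1 else t) * j a := rfl

theorem twist_even (t : G) (h : t * t = 1) (j : Perm (Fin n) →* G) (hc : ∀ a, t * j a = j a * t) {a}
    (ha : Perm.sign a = 1) : twist t h j hc a = j a := by
  rw [twist_apply, if_pos ha, one_mul]

theorem twist_odd (t : G) (h : t * t = 1) (j : Perm (Fin n) →* G) (hc : ∀ a, t * j a = j a * t) {a}
    (ha : Perm.sign a = -1) : twist t h j hc a = t * j a := by
  rw [twist_apply, if_neg (by rw [ha]; decide)]

theorem Sp.twist (h : Sp t j) : Sp t (twist t h.tt j h.comm) where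
  tt := h.tt
  t1 := h.t1
  inj := by
    rw [injective_iff_map_eq_one]
    intro a ha
    rw [twist_apply] at ha
    have hz : (if Perm.sign a = 1 then (1 : G) else t) = 1 ∨ (if Perm.sign a = 1 then (1 : G) else t) = t := by
      split_ifs
      · exact Or.inl rfl
      · exact Or.inr rfl
    exact (h.uniq hz (b := 1) (by rw [ha, map_one])).2
  comm := by
    intro a
    rw [twist_apply]
    split_ifs
    · rw [one_mul, h.comm]
    · rw [mul_assoc, ← h.comm]
  cent := by
    intro g hg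
    obtain ⟨z, a, hz, ha⟩ := h.cent g hg
    rcases Int.units_eq_one_or (Perm.sign a) with hs | hs
    · exact ⟨z, a, hz, by rw [twist_even _ _ _ _ hs, ha]⟩
    · rcases hz with rfl | rfl
      · exact ⟨t, a, Or.inr rfl, by rw [twist_odd _ _ _ _ hs, ← mul_assoc, h.tt, ha]⟩
      · exact ⟨1, a, Or.inl rfl, by rw [twist_odd _ _ _ _ hs, one_mul, ha]⟩
  ne := by
    intro a e
    rw [twist_apply] at e
    split_ifs at e with hs
    · rw [one_mul] at e; exact h.ne a e
    · have h1 : j a = 1 := mul_eq_left.1 e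
      have h2 : a = 1 := h.inj (by rw [h1, map_one])
      rw [h2] at hs
      exact hs (by simp)

/-- **JE**: after a change of the complement there are good components of `C(e)` for all the transpositions. -/
theorem Sp.exists_good_of_mat [Finite G] (hB : BL G) (h : Sp t j) (hn : 9 ≤ n) {k : Perm (Fin n)} (kk : k * k = 1)
    (k1 : k ≠ 1) (s : Perm.sign k = 1) {p q : Fin n} (hpq : p ≠ q) (hp' : k p = p) (hq' : k q = q)
    (hmat : Mat t j k p q)
    (hmax : ∀ (s : G) (D : Subgroup G), orderOf s = 2 → Comp s D → ¬ Iface.IsL2o ↥D →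
      2 * Nat.card D ≤ n.factorial) :
    ∃ j' : Perm (Fin n) →* G, Sp t j' ∧ (∀ a, Perm.sign a = 1 → j' a = j a) ∧
      ∀ p q : Fin n, p ≠ q → ∃ J, GoodJ t j' (swap p q) (j' (swap p q)) J := by
  obtain ⟨z, J, hz, hJ⟩ := h.exists_goodJ hB hn kk k1 s hpq hp' hq' hmat hmax
  have key : ∀ j' : Perm (Fin n) →* G, Sp t j' → GoodJ t j' (swap p q) (j' (swap p q)) J →
      ∀ p' q' : Fin n, p' ≠ q' → ∃ J, GoodJ t j' (swap p' q') (j' (swap p' q')) J := by
    intro j' h' H p' q' hpq'
    obtain ⟨c, -, hcp, hcq⟩ := exists_move (k := 1) hpq hpq' rfl rfl rfl rfl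
    have h1 := H.conj h' c
    have e1 : c * swap p q * c⁻¹ = swap p' q' := by
      rw [mul_swap_eq_swap_mul, hcp, hcq, mul_inv_cancel_right]
    rw [← map_inv, ← map_mul, ← map_mul, e1] at h1
    exact ⟨_, h1⟩
  rcases hz with rfl | rfl
  · refine ⟨j, h, fun _ _ => rfl, key j h ?_⟩
    rwa [one_mul] at hJ
  · refine ⟨Sym.twist z h.tt j h.comm, h.twist, fun a ha => twist_even _ _ _ _ ha, key _ h.twist ?_⟩
    have e1 : Sym.twist z h.tt j h.comm (swap p q) = z * j (swap p q) :=
      twist_odd _ _ _ _ (Perm.sign_swap hpq)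
    have e2 : LL (Sym.twist z h.tt j h.comm) (swap p q) = LL j (swap p q) := by
      ext x
      constructor
      · rintro ⟨a, ha, rfl⟩
        exact ⟨a, ha, (twist_even _ _ _ _ (mem_FA.1 ha).1).symm⟩
      · rintro ⟨a, ha, rfl⟩
        exact ⟨a, ha, twist_even _ _ _ _ (mem_FA.1 ha).1⟩
    refine ⟨?_, ?_⟩
    · rw [e1]; exact hJ.comp
    · rw [e2]; exact hJ.dg

/-- **JE**, the number of the fixed points is not `6` -/
theorem Sp.exists_good [Finite G] (hB : BL G) (h : Sp t j) (hn : 9 ≤ n) {k : Perm (Fin n)} (kk : k * k = 1)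
    (k1 : k ≠ 1) (s : Perm.sign k = 1) (hc : IsConj t (t * j k))
    (h2 : 2 ≤ (Finset.univ.filter fun a => k a = a).card) (h6 : (Finset.univ.filter fun a => k a = a).card ≠ 6)
    (hmax : ∀ (s : G) (D : Subgroup G), orderOf s = 2 → Comp s D → ¬ Iface.IsL2o ↥D →
      2 * Nat.card D ≤ n.factorial) :
    ∃ j' : Perm (Fin n) →* G, Sp t j' ∧ (∀ a, Perm.sign a = 1 → j' a = j a) ∧
      ∀ p q : Fin n, p ≠ q → ∃ J, GoodJ t j' (swap p q) (j' (swap p q)) J := by
  obtain ⟨p, hp, q, hq, hpq⟩ := Finset.one_lt_card.1 h2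
  have hp' : k p = p := by simpa using hp
  have hq' : k q = q := by simpa using hq
  exact h.exists_good_of_mat hB hn kk k1 s hpq hp' hq' (exists_match (by omega) h kk k1 s hc hpq hp' hq' h6) hmax

end Cfsg.Agent.OddHalf.D5.Sym
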