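import Cfsg.Agent.OddHalf.D5.Rows
import Cfsg.Agent.OddHalf.D5.Sym.JE
import Cfsg.Agent.OddHalf.D5.Sym.Good
import Cfsg.Agent.OddHalf.D5.SymEnd

/-!
# ODD D5, `C_G(t) = ⟨t⟩ × S_n`, `n ≥ 9`: assembly
-/

set_option autoImplicit false
set_option linter.style.haveILetI false

namespace Cfsg.Agent.OddHalf.D5.Sym

open Subgroup Equiv Cfsg Cfsg.Agent.SignalizersComponents Cfsg.Agent.OddHalf.D3 Cfsg.Agent.OddHalf.NI

universe u

section bal

variable {G : Type*} [Group G] [Finite G]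

/-- `O(C(y)) = 1` for all involutions gives `L_{2'}(C(y)) = E(C(y))`. -/
theorem bl_of_bal (hb : ∀ t : G, orderOf t = 2 → centralizerPPrimeCore 2 t = ⊥) : BL G := by
  haveI : Fact (Nat.Prime 2) := ⟨Nat.prime_two⟩
  intro y hy
  have hcore : pPrimeCore 2 ↥(centralizer ({y} : Set G)) = ⊥ := by
    have h := hb y hy
    unfold centralizerPPrimeCore at h
    exact (map_eq_bot_iff_of_injective _ (subtype_injective _)).1 h
  apply le_antisymm
  · apply sSup_le
    intro J hJ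
    have h1 : ⁅J, pPrimeCore 2 ↥(centralizer ({y} : Set G))⁆ = ⊥ := by
      rw [hcore, commutator_bot_right]
    exact Components.component_le_layer
      (ClassificationK.PCompTransport.isComponent_of_isPComponent 2 hJ h1)
  · rw [Components.layer_le_iff]
    intro K hK
    refine le_sSup (EvenComponent.isPComponent_of_isComponent hK ?_)
    by_contra hodd
    have h1 := Lib.PComponents.le_pPrimeCore_of_isSubnormal (p := 2) hK.1
      ((Nat.Prime.coprime_iff_not_dvd Nat.prime_two).2 hodd).symm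
    rw [hcore, le_bot_iff] at h1
    exact Components.component_ne_bot (K := K) hK h1

end bal

section row

variable {G : Type u} [Group G] {n : ℕ} {t : G} {φ : centralizer ({t} : Set G) →* Perm (Fin n)} {K : Subgroup G}

/-- `2 |K| ≤ n!` -/
theorem two_mul_card_K (hn : 2 ≤ n) (h : Gen t φ K) : 2 * Nat.card K ≤ n.factorial := by
  have hle : ∀ k : K, (k : G) ∈ centralizer ({t} : Set G) := fun k => h.le k.2
  let f : K → An n := fun k => ⟨φ ⟨k, hle k⟩, h.even ⟨k, hle k⟩ k.2⟩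
  have hf : Function.Injective f := by
    intro a b hab
    have h1 := h.inj (x := ⟨a, hle a⟩) (y := ⟨b, hle b⟩) a.2 b.2 (congrArg Subtype.val hab)
    exact Subtype.ext (congrArg (fun x : centralizer ({t} : Set G) => (x : G)) h1)
  have h1 := Nat.card_le_card_of_injective f hf
  have : Nontrivial (Fin n) := Fin.nontrivial_iff_two_le.2 hn
  have h2 : 2 * Nat.card (An n) = Nat.card (Perm (Fin n)) := two_mul_nat_card_alternatingGroup
  rw [Nat.card_perm, Nat.card_fin] at h2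
  omega

theorem hmax_of_row (hn : 2 ≤ n) (h : Gen t φ K) (S : Iface.Std G K) (s : G) (D : Subgroup G) (hs : orderOf s = 2)
    (hD : Comp s D) (hL : ¬ Iface.IsL2o ↥D) : 2 * Nat.card D ≤ n.factorial := by
  have h1 := S.max s D hs ⟨hD.le, hD.comp⟩ (fun hc => absurd hc hL)
  have h2 := two_mul_card_K hn h
  omega

end row

/-- back to `⊤` -/
def jι {G : Type*} [Group G] {n : ℕ} (j : Perm (Fin n) →* G) : (⊤ : Subgroup (Perm (Fin n))) →* G :=
  j.comp (⊤ : Subgroup (Perm (Fin n))).subtype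

theorem Sp.spl {G : Type*} [Group G] {n : ℕ} {t : G} {j : Perm (Fin n) →* G} (h : Sp t j) : Spl t ⊤ (jι j) where
  tt := h.tt
  t1 := h.t1
  inj := h.inj.comp Subtype.val_injective
  comm := fun a => h.comm _
  cent := by
    intro g hg
    obtain ⟨z, a, hz, ha⟩ := h.cent g hg
    rcases hz with rfl | rfl
    · exact Or.inl ⟨⟨a, mem_top a⟩, by rw [ha, one_mul]; rfl⟩
    · exact Or.inr ⟨⟨a, mem_top a⟩, ha⟩
  ne := fun a => h.ne _

/-- END: all the transpositions have good components -/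
def EndHyp : Prop :=
  ∀ (G : Type u) [Group G] [Finite G] (n : ℕ) (t : G) (j : Perm (Fin n) →* G), 9 ≤ n → Iface.Ctx G → BL G →
    (∀ (s : G) (D : Subgroup G), orderOf s = 2 → Comp s D → ¬ Iface.IsL2o ↥D → 2 * Nat.card D ≤ n.factorial) →
    Sp t j → (∀ p q : Fin n, p ≠ q → ∃ J, GoodJ t j (swap p q) (j (swap p q)) J) →
    ∃ K₁ : Subgroup G, SymEnd.Two t (jι j) K₁

/-- the case `n = 9` when the good type is absent, or MATCH -/
def MatHyp : Prop :=
  ∀ (G : Type u) [Group G] [Finite G] (n : ℕ) (t : G) (ι : (⊤ : Subgroup (Perm (Fin n))) →* G), 9 ≤ n →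
    Spl t ⊤ ι → (∀ H : Subgroup G, H.index ≠ 2) →
    (∀ a : (⊤ : Subgroup (Perm (Fin n))), Perm.sign (a : Perm (Fin n)) = 1 → ¬ IsConj t (ι a)) →
    ∃ (k : Perm (Fin n)) (p q : Fin n), k * k = 1 ∧ k ≠ 1 ∧ Perm.sign k = 1 ∧ p ≠ q ∧ k p = p ∧ k q = q ∧
      Mat t (jj ι) k p q

/-- **the row `C_G(t) = ⟨t⟩ × S_n`, `n ≥ 9`** -/
theorem symRow_of (hE : EndHyp.{u}) (hM : MatHyp.{u}) : SymRow.{u} (9 ≤ ·) := by
  intro G _ n t φ K hn R ι h hιK _
  have hn' : 9 ≤ n := hn
  haveI := R.ctx.fin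
  have hB := bl_of_bal R.ctx.bal
  have hK : ∀ a : (⊤ : Subgroup (Perm (Fin n))), Perm.sign (a : Perm (Fin n)) = 1 → ¬ IsConj t (ι a) := by
    intro a ha hc
    obtain ⟨g, hg⟩ := isConj_iff.1 hc
    apply R.disj g
    rw [hg]
    exact hιK a (Perm.mem_alternatingGroup.2 ha)
  have hmax := hmax_of_row (by omega) R.gen R.std
  obtain ⟨k, p, q, kk, k1, s, hpq, hp, hq, hmat⟩ := hM G n t ι hn' h R.index hK
  obtain ⟨j', h', -, hJ⟩ := (sp_of_spl h).exists_good_of_mat hB hn' kk k1 s hpq hp hq hmat hmax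
  obtain ⟨K₁, H⟩ := hE G n t j' hn' R.ctx hB hmax h' hJ
  exact H.false h'.spl (by omega) le_top R.index

end Cfsg.Agent.OddHalf.D5.Sym
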