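import Cfsg.Agent.OddHalf.D5.QPerm
import Cfsg.Agent.OddHalf.D5.IsoPerm

/-!
# ODD D5, `C_G(t) = ⟨t⟩ × S_n`: permutation lemmas for MATCH

`k` is an involution of `S_n`.
-/

set_option autoImplicit false
set_option linter.unusedSectionVars false

namespace Cfsg.Agent.OddHalf.D5.Sym

open Subgroup Equiv Cfsg.Agent.OddHalf.D5.QPerm

variable {n : ℕ}

theorem inv2 {k : Perm (Fin n)} (hk : k * k = 1) (x : Fin n) : k (k x) = x := by
  rw [← Perm.mul_apply, hk, Perm.one_apply]

/-- A subgroup containing the products of two 2-cycles of `k` contains all the even parts of `k`. -/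
theorem even_mem {k : Perm (Fin n)} (hk : k * k = 1) (H : Subgroup (Perm (Fin n)))
    (hH : ∀ a c, k a ≠ a → k c ≠ c → c ≠ a → c ≠ k a → swap a (k a) * swap c (k c) ∈ H) (m : ℕ) :
    ∀ h : Perm (Fin n), h.support.card ≤ m → (∀ x, h x = x ∨ h x = k x) → Perm.sign h = 1 → h ∈ H := by
  classical
  have hkk : ∀ x, k (k x) = x := inv2 hk
  -- removing a transposition
  have step : ∀ h : Perm (Fin n), (∀ x, h x = x ∨ h x = k x) → ∀ a, h a ≠ a →
      (∀ x, (swap a (k a) * h) x = x ∨ (swap a (k a) * h) x = k x) ∧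
      (swap a (k a) * h).support ⊆ h.support ∧ a ∉ (swap a (k a) * h).support ∧ k a ≠ a ∧
      (∀ x, (swap a (k a) * h) x ≠ x → x ≠ a ∧ x ≠ k a) := by
    intro h hh a ha
    have h1 : h a = k a := (hh a).resolve_left ha
    have h2 : k a ≠ a := by rw [← h1]; exact ha
    have h3 : h (k a) = a := by
      rcases hh (k a) with h4 | h4
      · exfalso
        apply h2
        exact (h.injective (h1.trans h4.symm)).symm
      · rw [h4, hkk]
    have hx : ∀ x, (swap a (k a) * h) x = if x = a ∨ x = k a then x else h x := by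
      intro x
      rw [Perm.mul_apply]
      by_cases hxa : x = a
      · rw [if_pos (Or.inl hxa), hxa, h1, swap_apply_right]
      by_cases hxb : x = k a
      · rw [if_pos (Or.inr hxb), hxb, h3, swap_apply_left]
      rw [if_neg (by tauto)]
      apply swap_apply_of_ne_of_ne
      · intro h4; apply hxb; exact h.injective (h4.trans h3.symm)
      · intro h4; apply hxa; exact h.injective (h4.trans h1.symm)
    refine ⟨?_, ?_, ?_, h2, ?_⟩
    · intro x
      rw [hx]
      split_ifs with h4
      · exact Or.inl rfl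
      · exact hh x
    · intro x hx'
      rw [Perm.mem_support, hx] at hx'
      rw [Perm.mem_support]
      split_ifs at hx' with h4
      · exact absurd rfl hx'
      · exact hx'
    · rw [Perm.mem_support, hx, if_pos (Or.inl rfl)]; exact fun h => h rfl
    · intro x hx'
      rw [hx] at hx'
      split_ifs at hx' with h4
      · exact absurd rfl hx'
      · exact ⟨fun h => h4 (Or.inl h), fun h => h4 (Or.inr h)⟩
  induction m with
  | zero =>
    intro h hc _ _
    have : h = 1 := by
      rw [← Perm.card_support_eq_zero]; omega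
    rw [this]; exact one_mem _
  | succ m ih =>
    intro h hc hh hs
    by_cases h1 : h = 1
    · rw [h1]; exact one_mem _
    obtain ⟨a, ha⟩ : ∃ a, h a ≠ a := by
      by_contra hcon
      push Not at hcon
      exact h1 (Perm.ext hcon)
    obtain ⟨s1, s2, s3, s4, s5⟩ := step h hh a ha
    have hs' : Perm.sign (swap a (k a) * h) = -1 := by
      rw [Perm.sign_mul, Perm.sign_swap (Ne.symm s4), hs, mul_one]
    obtain ⟨c, hc'⟩ : ∃ c, (swap a (k a) * h) c ≠ c := by
      by_contra hcon
      push Not at hcon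
      have : swap a (k a) * h = 1 := Perm.ext hcon
      rw [this, Perm.sign_one] at hs'
      exact absurd hs' (by decide)
    obtain ⟨r1, r2, r3, r4, r5⟩ := step _ s1 c hc'
    obtain ⟨ca, cb⟩ := s5 c hc'
    set h' := swap c (k c) * (swap a (k a) * h) with hh'
    have hmem := ih h' (by
      have h4 : h'.support ⊆ h.support.erase a := by
        intro x hx
        rw [Finset.mem_erase]
        have h5 := r2 hx
        refine ⟨?_, s2 h5⟩
        rintro rfl
        exact s3 h5
      have h5 := Finset.card_le_card h4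
      rw [Finset.card_erase_of_mem (Perm.mem_support.2 ha)] at h5
      omega) r1 (by rw [Perm.sign_mul, hs', Perm.sign_swap (Ne.symm r4)]; decide)
    have h16 := hH a c s4 r4 ca cb
    have h17 : h = swap a (k a) * swap c (k c) * h' := by
      rw [hh', ← mul_assoc, mul_assoc (swap a (k a)), swap_mul_self, mul_one, ← mul_assoc, swap_mul_self, one_mul]
    rw [h17]
    exact mul_mem h16 hmem

theorem four {k : Perm (Fin n)} (hk : k * k = 1) {a c : Fin n} (ha : k a ≠ a) (hc : k c ≠ c) (h1 : c ≠ a)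
    (h2 : c ≠ k a) : Four a (k a) c (k c) :=
  ⟨Ne.symm ha, Ne.symm h1, fun h => h2 (by rw [h, inv2 hk]), Ne.symm h2, fun h => h1 (k.injective h).symm,
    Ne.symm hc⟩

theorem T_comm_k {k : Perm (Fin n)} (hk : k * k = 1) (a : Fin n) : swap a (k a) * k = k * swap a (k a) := by
  rw [mul_swap_eq_swap_mul, inv2 hk, swap_comm a (k a)]

theorem T_comm {k : Perm (Fin n)} (hk : k * k = 1) {a c : Fin n} (ha : k a ≠ a) (hc : k c ≠ c) :
    swap a (k a) * swap c (k c) = swap c (k c) * swap a (k a) := by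
  by_cases h1 : c = a
  · rw [h1]
  by_cases h2 : c = k a
  · rw [h2, inv2 hk, swap_comm (k a) a]
  · exact (rt_s2 (four hk ha hc h1 h2)).symm

/-- `swap a c * swap (k a) (k c)` commutes with `k` -/
theorem cross_comm {k : Perm (Fin n)} (hk : k * k = 1) {a c : Fin n} (ha : k a ≠ a) (hc : k c ≠ c) (h1 : c ≠ a)
    (h2 : c ≠ k a) : rt a c (k a) (k c) * k = k * rt a c (k a) (k c) := by
  have F := four hk ha hc h1 h2
  unfold rt
  have e1 : k * swap a c = swap (k a) (k c) * k := mul_swap_eq_swap_mul _ _ _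
  have e2 : k * swap (k a) (k c) = swap a c * k := by rw [mul_swap_eq_swap_mul, inv2 hk, inv2 hk]
  rw [← mul_assoc k, e1, mul_assoc (swap (k a) (k c)), e2, ← mul_assoc]
  congr 1
  exact (rt_s2 F.s3).symm

/-- an element of order three commuting with `k` and moving a point of the support of `k` -/
theorem mem_of_moves {k : Perm (Fin n)} (hk : k * k = 1) (hs : Perm.sign k = 1) (H : Subgroup (Perm (Fin n)))
    (hH : ∀ h ∈ H, ∀ c, c * k = k * c → c * h * c⁻¹ ∈ H) {s : Perm (Fin n)} (hsH : s ∈ H)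
    (hsk : s * k = k * s) (s3 : s ^ 3 = 1) {a : Fin n} (ha : k a ≠ a) (hsa : s a ≠ a) : k ∈ H := by
  classical
  have hkk : ∀ x, k (k x) = x := inv2 hk
  have hskinv : s⁻¹ * k = k * s⁻¹ := by
    rw [inv_mul_eq_iff_eq_mul, ← mul_assoc, hsk, mul_inv_cancel_right]
  -- another 2-cycle
  obtain ⟨c, hc⟩ : ∃ c, k c ≠ (swap a (k a)) c := by
    by_contra hcon
    push Not at hcon
    have : k = swap a (k a) := Perm.ext hcon
    rw [this, Perm.sign_swap (Ne.symm ha)] at hs
    exact absurd hs (by decide)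
  have ca : c ≠ a := by rintro rfl; exact hc (by rw [swap_apply_left])
  have cka : c ≠ k a := by rintro rfl; exact hc (by rw [swap_apply_right, hkk])
  rw [swap_apply_of_ne_of_ne ca cka] at hc
  have F := four hk ha hc ca cka
  set f := rt a (k a) c (k c) with hf
  have hfk : f * k = k * f := by
    rw [hf]; unfold rt
    rw [mul_assoc, T_comm_k hk c, ← mul_assoc, T_comm_k hk a, mul_assoc]
  have hfE : f ∈ IsoPerm.EE k hk := by
    intro x
    by_cases h1 : x = a
    · right; rw [h1, hf, rt_a F]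
    by_cases h2 : x = k a
    · right; rw [h2, hf, rt_b F, hkk]
    by_cases h3 : x = c
    · right; rw [h3, hf, rt_c F]
    by_cases h4 : x = k c
    · right; rw [h4, hf, rt_d F, hkk]
    left; rw [hf, rt_o h1 h2 h3 h4]
  have hsf : s * f * s⁻¹ ∈ IsoPerm.EE k hk := by
    intro x
    rcases hfE (s⁻¹ x) with h1 | h1
    · left
      rw [Perm.mul_apply, Perm.mul_apply, h1, ← Perm.mul_apply, mul_inv_cancel, Perm.one_apply]
    · right
      rw [Perm.mul_apply, Perm.mul_apply, h1, ← Perm.mul_apply, hsk, Perm.mul_apply, ← Perm.mul_apply s,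
        mul_inv_cancel, Perm.one_apply]
  set γ := s * f * s⁻¹ * f⁻¹ with hγ
  have hγE : γ ∈ IsoPerm.EE k hk := mul_mem hsf (inv_mem hfE)
  have hγH : γ ∈ H := by
    have e1 : γ = s * (f * s⁻¹ * f⁻¹) := by rw [hγ]; group
    rw [e1]
    exact mul_mem hsH (hH _ (inv_mem hsH) f hfk)
  have hγs : Perm.sign γ = 1 := by
    rw [hγ, Perm.sign_mul, Perm.sign_mul, Perm.sign_mul, Perm.sign_inv, Perm.sign_inv]
    rcases Int.units_eq_one_or (Perm.sign s) with h1 | h1 <;>
    rcases Int.units_eq_one_or (Perm.sign f) with h2 | h2 <;> rw [h1, h2] <;> decide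
  have hγγ : γ * γ = 1 := IsoPerm.EE_sq hγE
  have hγinv : γ⁻¹ = γ := inv_eq_of_mul_eq_one_left hγγ
  have hγγ' := inv2 hγγ
  obtain ⟨b0, hb0⟩ : ∃ b, γ b ≠ b := by
    by_contra hcon
    push Not at hcon
    have h1 : γ = 1 := Perm.ext hcon
    rw [hγ, mul_inv_eq_one, mul_inv_eq_iff_eq_mul] at h1
    exact hsa (fix_a F s3 h1)
  by_cases hall : ∀ d, k d ≠ d → γ d ≠ d
  · have : γ = k := by
      ext x
      rcases hγE x with h1 | h1
      · by_cases h2 : k x = x
        · rw [h1, h2]
        · exact absurd h1 (hall x h2)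
      · rw [h1]
    rw [← this]; exact hγH
  push Not at hall
  obtain ⟨d0, hd0, hd0'⟩ := hall
  have mv : ∀ b, γ b ≠ b → γ b = k b ∧ k b ≠ b ∧ γ (k b) = b := by
    intro b hb
    have h1 := (hγE b).resolve_left hb
    refine ⟨h1, by rw [← h1]; exact hb, ?_⟩
    rw [← h1, hγγ']
  have fx : ∀ d, γ d = d → γ (k d) = k d := by
    intro d hd
    by_contra hcon
    have := (mv _ hcon).2.2
    rw [hkk, hd] at this
    exact hcon (by rw [← this, hd])
  have claim1 : ∀ b d, γ b ≠ b → γ d = d → k d ≠ d → swap b (k b) * swap d (k d) ∈ H := by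
    intro b d hb hd hkd
    obtain ⟨b1, b2, b3⟩ := mv b hb
    have h1 : d ≠ b := by rintro rfl; exact hb hd
    have h2 : d ≠ k b := by rintro rfl; rw [b3] at hd; exact b2 hd.symm
    have F' := four hk b2 hkd h1 h2
    have hkd' := fx d hd
    set π := rt b d (k b) (k d) with hπ
    have hππ : π * π = 1 := rt_mul_self F'.s3
    have hπinv : π⁻¹ = π := inv_eq_of_mul_eq_one_left hππ
    have h3 : π * γ * π⁻¹ * γ⁻¹ ∈ H := mul_mem (hH _ hγH _ (cross_comm hk b2 hkd h1 h2)) (inv_mem hγH)
    have h4 : π * γ * π⁻¹ * γ⁻¹ = swap b (k b) * swap d (k d) := by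
      rw [hπinv, hγinv]
      show π * γ * π * γ = rt b (k b) d (k d)
      refine Perm.ext fun x => ?_
      refine cases5 (a := b) (b := k b) (c := d) (d := k d)
        (P := fun x => (π * γ * π * γ) x = rt b (k b) d (k d) x) ?_ ?_ ?_ ?_ ?_ x
      · rw [Perm.mul_apply, Perm.mul_apply, Perm.mul_apply, b1, hπ, rt_c F'.s3, hkd', rt_d F'.s3, rt_a F']
      · rw [Perm.mul_apply, Perm.mul_apply, Perm.mul_apply, b3, hπ, rt_a F'.s3, hd, rt_b F'.s3, rt_b F']
      · rw [Perm.mul_apply, Perm.mul_apply, Perm.mul_apply, hd, hπ, rt_b F'.s3, b1, rt_c F'.s3, rt_c F']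
      · rw [Perm.mul_apply, Perm.mul_apply, Perm.mul_apply, hkd', hπ, rt_d F'.s3, b3, rt_a F'.s3, rt_d F']
      · intro x x1 x2 x3 x4
        have h5 : π x = x := rt_o x1 x3 x2 x4
        rw [Perm.mul_apply, Perm.mul_apply, Perm.mul_apply, rt_o x1 x2 x3 x4]
        by_cases hx : γ x = x
        · rw [hx, h5, hx, h5]
        · obtain ⟨y1, y2, y3⟩ := mv x hx
          have h6 : π (k x) = k x := rt_o (fun h => x2 (by rw [← h, hkk])) (fun h => x4 (by rw [← h, hkk]))
            (fun h => x1 (k.injective h)) (fun h => x3 (k.injective h))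
          rw [y1, h6, y3, h5]
    rwa [h4] at h3
  refine even_mem hk H ?_ _ k le_rfl (fun _ => Or.inr rfl) hs
  intro b d hb hd _ _
  by_cases h1 : γ b = b
  · by_cases h2 : γ d = d
    · have e1 := mul_mem (claim1 b0 b hb0 h1 hb) (claim1 b0 d hb0 h2 hd)
      have h3 := (mv b0 hb0).2.1
      have e2 : swap b0 (k b0) * swap b (k b) * (swap b0 (k b0) * swap d (k d)) = swap b (k b) * swap d (k d) := by
        rw [T_comm hk h3 hb, mul_assoc, ← mul_assoc (swap b0 (k b0)), swap_mul_self, one_mul]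
      rwa [e2] at e1
    · rw [T_comm hk hb hd]; exact claim1 d b h2 h1 hb
  · by_cases h2 : γ d = d
    · exact claim1 b d h1 h2 hd
    · have e1 := mul_mem (claim1 b d0 h1 hd0' hd0) (claim1 d d0 h2 hd0' hd0)
      have e2 : swap b (k b) * swap d0 (k d0) * (swap d (k d) * swap d0 (k d0)) = swap b (k b) * swap d (k d) := by
        rw [T_comm hk hd hd0, mul_assoc, ← mul_assoc (swap d0 (k d0)), swap_mul_self, one_mul]
      rwa [e2] at e1

/-! ### a transposition -/

/-- `h` acts on the points `v i` as `w` -/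
theorem no_emb {m : ℕ} {h : Perm (Fin n)} {F : Finset (Fin n)} (v : Fin m ↪ Fin n) (w L : Perm (Fin m))
    (hw : ∀ i, h (v i) = v (w i)) (hL : Perm.sign L = 1) (hz : (w * (L * w * L⁻¹)) ^ 6 ≠ 1) (hv : ∀ i, v i ∈ F)
    (hl : ∀ l : Perm (Fin n), Perm.sign l = 1 → (∀ x, x ∉ F → l x = x) → (h * (l * h * l⁻¹)) ^ 6 = 1) :
    False := by
  classical
  set l := L.viaFintypeEmbedding v with hl'
  have l1 : ∀ i, l (v i) = v (L i) := fun i => Perm.viaFintypeEmbedding_apply_image _ _ _
  have l2 : ∀ i, l⁻¹ (v i) = v (L⁻¹ i) := by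
    intro i
    rw [Perm.inv_eq_iff_eq, l1, ← Perm.mul_apply, mul_inv_cancel, Perm.one_apply]
  have h1 := hl l (by rw [hl', Perm.viaFintypeEmbedding_sign, hL]) (by
    intro x hx
    apply Perm.viaFintypeEmbedding_apply_notMem_range
    rintro ⟨i, rfl⟩
    exact hx (hv i))
  have h2 : ∀ (e : ℕ) (i), ((h * (l * h * l⁻¹)) ^ e) (v i) = v (((w * (L * w * L⁻¹)) ^ e) i) := by
    intro e
    induction e with
    | zero => intro i; rw [pow_zero, pow_zero]; rfl
    | succ e ih =>
      intro i
      rw [pow_succ', pow_succ', Perm.mul_apply, ih, Perm.mul_apply, Perm.mul_apply, Perm.mul_apply, l2, hw, l1, hw]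
      rfl
  apply hz
  refine Perm.ext fun i => v.injective ?_
  rw [← h2 6 i, h1]
  rfl

theorem eq_swap {h : Perm (Fin n)} (hh : h * h = 1) (hs : Perm.sign h = -1) (F : Finset (Fin n))
    (hF : ∀ x, h x ≠ x → x ∈ F) (h6 : F.card ≠ 6)
    (hl : ∀ l : Perm (Fin n), Perm.sign l = 1 → (∀ x, x ∉ F → l x = x) → (h * (l * h * l⁻¹)) ^ 6 = 1) :
    ∃ x y, x ≠ y ∧ x ∈ F ∧ y ∈ F ∧ h = swap x y := by
  classical
  have haa := inv2 hh
  have hFh : ∀ x, h x ≠ x → h x ∈ F := fun x hx => hF _ (by rw [haa]; exact Ne.symm hx)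
  -- the first two-cycle
  obtain ⟨x1, h1⟩ : ∃ x, h x ≠ x := by
    by_contra hcon
    push Not at hcon
    have : h = 1 := Perm.ext hcon
    rw [this, Perm.sign_one] at hs
    exact absurd hs (by decide)
  by_cases hne : h = swap x1 (h x1)
  · exact ⟨x1, h x1, Ne.symm h1, hF _ h1, hFh _ h1, hne⟩
  exfalso
  -- the second
  obtain ⟨x3, h3⟩ : ∃ x, h x ≠ (swap x1 (h x1)) x := by
    by_contra hcon
    push Not at hcon
    exact hne (Perm.ext hcon)
  have h31 : x3 ≠ x1 := by rintro rfl; exact h3 (by rw [swap_apply_left])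
  have h32 : x3 ≠ h x1 := by rintro rfl; exact h3 (by rw [swap_apply_right, haa])
  rw [swap_apply_of_ne_of_ne h31 h32] at h3
  have h41 : h x3 ≠ x1 := fun e => h32 (by rw [← e, haa])
  have h42 : h x3 ≠ h x1 := fun e => h31 (h.injective e)
  -- the third
  obtain ⟨x5, h5⟩ : ∃ x, h x ≠ (swap x1 (h x1) * swap x3 (h x3)) x := by
    by_contra hcon
    push Not at hcon
    have : h = swap x1 (h x1) * swap x3 (h x3) := Perm.ext hcon
    rw [this, Perm.sign_mul, Perm.sign_swap (Ne.symm h1), Perm.sign_swap (Ne.symm h3)] at hs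
    exact absurd hs (by decide)
  have h53 : x5 ≠ x3 := by
    rintro rfl
    apply h5
    rw [Perm.mul_apply, swap_apply_left, swap_apply_of_ne_of_ne h41 h42]
  have h54 : x5 ≠ h x3 := by
    rintro rfl
    apply h5
    rw [Perm.mul_apply, swap_apply_right, haa, swap_apply_of_ne_of_ne h31 h32]
  have h51 : x5 ≠ x1 := by
    rintro rfl
    apply h5
    rw [Perm.mul_apply, swap_apply_of_ne_of_ne h53 h54, swap_apply_left]
  have h52 : x5 ≠ h x1 := by
    rintro rfl
    apply h5
    rw [Perm.mul_apply, swap_apply_of_ne_of_ne h53 h54, swap_apply_right, haa]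
  rw [Perm.mul_apply, swap_apply_of_ne_of_ne h53 h54, swap_apply_of_ne_of_ne h51 h52] at h5
  have h61 : h x5 ≠ x1 := fun e => h52 (by rw [← e, haa])
  have h62 : h x5 ≠ h x1 := fun e => h51 (h.injective e)
  have h63 : h x5 ≠ x3 := fun e => h54 (by rw [← e, haa])
  have h64 : h x5 ≠ h x3 := fun e => h53 (h.injective e)
  -- a further point
  obtain ⟨c, hcF, hc⟩ : ∃ c ∈ F, c ∉ ({x1, h x1, x3, h x3, x5, h x5} : Finset (Fin n)) := by
    by_contra hcon
    push Not at hcon
    have h7 : F ⊆ {x1, h x1, x3, h x3, x5, h x5} := hcon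
    have h8 : ({x1, h x1, x3, h x3, x5, h x5} : Finset (Fin n)) ⊆ F := by
      intro y hy
      simp only [Finset.mem_insert, Finset.mem_singleton] at hy
      rcases hy with rfl | rfl | rfl | rfl | rfl | rfl
      · exact hF _ h1
      · exact hFh _ h1
      · exact hF _ h3
      · exact hFh _ h3
      · exact hF _ h5
      · exact hFh _ h5
    apply h6
    rw [Finset.Subset.antisymm h7 h8]
    rw [Finset.card_insert_of_notMem, Finset.card_insert_of_notMem, Finset.card_insert_of_notMem,
      Finset.card_insert_of_notMem, Finset.card_insert_of_notMem, Finset.card_singleton]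
    · simpa using Ne.symm h5
    · simp only [Finset.mem_insert, Finset.mem_singleton, not_or]
      exact ⟨Ne.symm h54, Ne.symm h64⟩
    · simp only [Finset.mem_insert, Finset.mem_singleton, not_or]
      exact ⟨Ne.symm h3, Ne.symm h53, Ne.symm h63⟩
    · simp only [Finset.mem_insert, Finset.mem_singleton, not_or]
      exact ⟨Ne.symm h32, Ne.symm h42, Ne.symm h52, Ne.symm h62⟩
    · simp only [Finset.mem_insert, Finset.mem_singleton, not_or]
      exact ⟨Ne.symm h1, Ne.symm h31, Ne.symm h41, Ne.symm h51, Ne.symm h61⟩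
  simp only [Finset.mem_insert, Finset.mem_singleton, not_or] at hc
  obtain ⟨c1, c2, c3, c4, c5, c6⟩ := hc
  by_cases hcc : h c = c
  · -- five points
    have hnd : [c, x1, x3, h x3, h x1].Nodup := by
      simp only [List.nodup_cons, List.mem_cons, List.not_mem_nil, or_false, not_or, not_false_eq_true,
        List.nodup_nil, and_true]
      exact ⟨⟨c1, c3, c4, c2⟩, ⟨Ne.symm h31, Ne.symm h41, Ne.symm h1⟩, ⟨Ne.symm h3, h32⟩, h42⟩
    let v : Fin 5 ↪ Fin n := ⟨fun i => [c, x1, x3, h x3, h x1].get i, List.nodup_iff_injective_get.1 hnd⟩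
    refine no_emb (h := h) (F := F) v (swap 1 4 * swap 2 3) (swap 0 1 * swap 1 2 * swap 2 3 * swap 3 4) ?_
      (by decide +kernel) (by decide +kernel) ?_ hl
    · intro i
      fin_cases i
      · exact hcc
      · rfl
      · rfl
      · exact haa _
      · exact haa _
    · intro i
      fin_cases i
      · exact hcF
      · exact hF _ h1
      · exact hF _ h3
      · exact hFh _ h3
      · exact hFh _ h1
  · -- eight points
    have d1 : h c ≠ x1 := fun e => c2 (by rw [← e, haa])
    have d2 : h c ≠ h x1 := fun e => c1 (h.injective e)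
    have d3 : h c ≠ x3 := fun e => c4 (by rw [← e, haa])
    have d4 : h c ≠ h x3 := fun e => c3 (h.injective e)
    have d5 : h c ≠ x5 := fun e => c6 (by rw [← e, haa])
    have d6 : h c ≠ h x5 := fun e => c5 (h.injective e)
    have hnd : [x1, h x1, x3, h x3, x5, h x5, c, h c].Nodup := by
      simp only [List.nodup_cons, List.mem_cons, List.not_mem_nil, or_false, not_or, not_false_eq_true,
        List.nodup_nil, and_true]
      exact ⟨⟨Ne.symm h1, Ne.symm h31, Ne.symm h41, Ne.symm h51, Ne.symm h61, Ne.symm c1, Ne.symm d1⟩,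
        ⟨Ne.symm h32, Ne.symm h42, Ne.symm h52, Ne.symm h62, Ne.symm c2, Ne.symm d2⟩,
        ⟨Ne.symm h3, Ne.symm h53, Ne.symm h63, Ne.symm c3, Ne.symm d3⟩,
        ⟨Ne.symm h54, Ne.symm h64, Ne.symm c4, Ne.symm d4⟩,
        ⟨Ne.symm h5, Ne.symm c5, Ne.symm d5⟩, ⟨Ne.symm c6, Ne.symm d6⟩, Ne.symm hcc⟩
    let v : Fin 8 ↪ Fin n := ⟨fun i => [x1, h x1, x3, h x3, x5, h x5, c, h c].get i,
      List.nodup_iff_injective_get.1 hnd⟩
    refine no_emb (h := h) (F := F) v (swap 0 1 * swap 2 3 * swap 4 5 * swap 6 7)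
      (swap 0 1 * swap 1 2 * swap 2 3 * swap 3 4 * swap 4 5 * swap 5 6 * swap 6 7 * swap 0 1) ?_
      (by decide +kernel) (by decide +kernel) ?_ hl
    · intro i
      fin_cases i
      · rfl
      · exact haa _
      · rfl
      · exact haa _
      · rfl
      · exact haa _
      · rfl
      · exact haa _
    · intro i
      fin_cases i
      · exact hF _ h1
      · exact hFh _ h1
      · exact hF _ h3
      · exact hFh _ h3
      · exact hF _ h5
      · exact hFh _ h5
      · exact hcF
      · exact hFh _ hcc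

/-- a permutation commuting on the support of `k` with the centralizer of `k` -/
theorem supp_cases {k σ : Perm (Fin n)} (hk : k * k = 1) (hσ : σ * k = k * σ)
    (hc : ∀ π : Perm (Fin n), π * k = k * π → ∀ a, k a ≠ a → σ (π a) = π (σ a)) :
    (∀ a, k a ≠ a → σ a = a) ∨ ∀ a, k a ≠ a → σ a = k a := by
  classical
  have hkk := inv2 hk
  have hσ' : ∀ x, σ (k x) = k (σ x) := fun x => by
    have := congrArg (fun g : Perm (Fin n) => g x) hσ
    simpa using this
  have h1 : ∀ a, k a ≠ a → σ a = a ∨ σ a = k a := by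
    intro a ha
    by_contra hcon
    push Not at hcon
    have h2 := hc _ (T_comm_k hk a) a ha
    rw [swap_apply_left, swap_apply_of_ne_of_ne hcon.1 hcon.2, hσ'] at h2
    apply ha
    apply σ.injective
    rw [hσ', h2]
  have h2 : ∀ a c, k a ≠ a → k c ≠ c → c ≠ a → c ≠ k a → σ a = a → σ c = c := by
    intro a c ha hc' h3 h4 h5
    have F := four hk ha hc' h3 h4
    have h6 := hc _ (cross_comm hk ha hc' h3 h4) a ha
    rwa [rt_a F.s3, h5, rt_a F.s3] at h6
  by_cases hex : ∃ a, k a ≠ a ∧ σ a = a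
  · obtain ⟨a, ha, ha'⟩ := hex
    left
    intro c hc'
    by_cases h3 : c = a
    · rw [h3, ha']
    by_cases h4 : c = k a
    · rw [h4, hσ', ha']
    exact h2 a c ha hc' h3 h4 ha'
  · push Not at hex
    right
    intro c hc'
    exact (h1 c hc').resolve_left (hex c hc')

theorem not_conj {k c : Perm (Fin n)} {p q : Fin n} (k1 : k ≠ 1) (hp : k p = p) (hq : k q = q)
    (hpq : p ≠ q) : c * swap p q * c⁻¹ ≠ k * swap p q := by
  classical
  intro h
  have e1 : c * swap p q * c⁻¹ = swap (c p) (c q) := by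
    rw [mul_swap_eq_swap_mul, mul_inv_cancel_right]
  rw [e1] at h
  obtain ⟨a, ha⟩ : ∃ a, k a ≠ a := by
    by_contra hcon
    push Not at hcon
    exact k1 (Perm.ext hcon)
  have hap : a ≠ p := by rintro rfl; exact ha hp
  have haq : a ≠ q := by rintro rfl; exact ha hq
  have m1 : (swap (c p) (c q)) a ≠ a := by
    rw [h, Perm.mul_apply, swap_apply_of_ne_of_ne hap haq]; exact ha
  have m2 : (swap (c p) (c q)) p ≠ p := by
    rw [h, Perm.mul_apply, swap_apply_left, hq]; exact hpq.symm
  have m3 : (swap (c p) (c q)) q ≠ q := by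
    rw [h, Perm.mul_apply, swap_apply_right, hp]; exact hpq
  have key : ∀ x, (swap (c p) (c q)) x ≠ x → x = c p ∨ x = c q := by
    intro x hx
    by_contra hcon
    push Not at hcon
    exact hx (swap_apply_of_ne_of_ne hcon.1 hcon.2)
  rcases key a m1 with h1 | h1 <;> rcases key p m2 with h2 | h2 <;> rcases key q m3 with h3 | h3
  · exact hap (h1.trans h2.symm)
  · exact hap (h1.trans h2.symm)
  · exact haq (h1.trans h3.symm)
  · exact hpq (h2.trans h3.symm)
  · exact hpq (h2.trans h3.symm)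
  · exact haq (h1.trans h3.symm)
  · exact hap (h1.trans h2.symm)
  · exact hap (h1.trans h2.symm)

/-! ### conjugacy of involutions -/

theorem cycleType_of_sq {k : Perm (Fin n)} (hk : k * k = 1) :
    k.cycleType = Multiset.replicate (k.support.card / 2) 2 := by
  by_cases h1 : k = 1
  · rw [h1]; simp
  have h2 : orderOf k = 2 := orderOf_eq_prime (by rw [pow_two, hk]) h1
  obtain ⟨m, hm⟩ := Perm.cycleType_prime_order (σ := k) (by rw [h2]; exact Nat.prime_two)
  have h3 := Perm.sum_cycleType k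
  rw [hm, h2, Multiset.sum_replicate, smul_eq_mul] at h3
  rw [← h3, hm, h2, Nat.mul_div_cancel _ (by norm_num)]

theorem exists_conj_of_card {k k' : Perm (Fin n)} (hk : k * k = 1) (hk' : k' * k' = 1)
    (h : k.support.card = k'.support.card) : ∃ π : Perm (Fin n), π * k * π⁻¹ = k' := by
  have h1 : IsConj k k' := by
    rw [Perm.isConj_iff_cycleType_eq, cycleType_of_sq hk, cycleType_of_sq hk', h]
  exact isConj_iff.1 h1

theorem four_dvd_support {k : Perm (Fin n)} (hk : k * k = 1) (hs : Perm.sign k = 1) : 4 ∣ k.support.card := by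
  have h1 := cycleType_of_sq hk
  have h2 := Perm.sum_cycleType k
  rw [h1, Multiset.sum_replicate, smul_eq_mul] at h2
  have h3 := Perm.sign_of_cycleType k
  rw [h1, hs, Multiset.sum_replicate, Multiset.card_replicate, smul_eq_mul] at h3
  set m := k.support.card / 2 with hm
  have h4 : Even m := by
    by_contra hcon
    rw [Nat.not_even_iff_odd] at hcon
    have h5 : Odd (m * 2 + m) := by
      rw [Nat.odd_add]; exact ⟨fun _ => absurd ‹_› (by
        rw [Nat.not_odd_iff_even]; exact even_two.mul_left m), fun h => absurd hcon (by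
        rw [Nat.not_odd_iff_even]; exact h)⟩
    rw [h5.neg_one_pow] at h3
    exact absurd h3 (by decide)
  obtain ⟨a, ha⟩ := h4
  refine ⟨a, ?_⟩
  omega

/-! ### the alternating group on the fixed points of `k` -/

/-- the even permutations fixing the support of `k` -/
def FA (k : Perm (Fin n)) : Subgroup (Perm (Fin n)) where
  carrier := {σ | Perm.sign σ = 1 ∧ ∀ a, k a ≠ a → σ a = a}
  one_mem' := ⟨Perm.sign_one, fun _ _ => rfl⟩
  mul_mem' := by
    rintro a b ⟨ha, ha'⟩ ⟨hb, hb'⟩
    refine ⟨by rw [Perm.sign_mul, ha, hb, one_mul], fun x hx => ?_⟩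
    rw [Perm.mul_apply, hb' x hx, ha' x hx]
  inv_mem' := by
    rintro a ⟨ha, ha'⟩
    refine ⟨by rw [Perm.sign_inv, ha], fun x hx => ?_⟩
    rw [Perm.inv_eq_iff_eq, ha' x hx]

theorem mem_FA {k σ : Perm (Fin n)} : σ ∈ FA k ↔ Perm.sign σ = 1 ∧ ∀ a, k a ≠ a → σ a = a := Iff.rfl

theorem exists_sub {k σ : Perm (Fin n)} (h : ∀ a, k a ≠ a → σ a = a) :
    ∃ τ : Perm {a // k a = a}, Perm.ofSubtype τ = σ := by
  have h1 : ∀ x, k (σ x) = σ x ↔ k x = x := by
    intro x
    constructor
    · intro h2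
      by_contra h3
      have h4 := h x h3
      rw [h4] at h2
      exact h3 h2
    · intro h2
      by_contra h3
      have h4 := h _ h3
      have h5 := σ.injective h4
      rw [h5] at h3
      exact h3 h2
  refine ⟨σ.subtypePerm (fun x => h1 x), Perm.ofSubtype_subtypePerm _ ?_⟩
  intro x hx
  by_contra h2
  exact hx (h x h2)

theorem FA_eq_map (k : Perm (Fin n)) :
    FA k = (alternatingGroup {a // k a = a}).map (Perm.ofSubtype : Perm {a // k a = a} →* Perm (Fin n)) := by
  ext σ
  rw [mem_FA, mem_map]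
  constructor
  · rintro ⟨h1, h2⟩
    obtain ⟨τ, rfl⟩ := exists_sub h2
    exact ⟨τ, by rw [Perm.mem_alternatingGroup, ← Perm.sign_ofSubtype, h1], rfl⟩
  · rintro ⟨τ, h1, rfl⟩
    refine ⟨by rw [Perm.sign_ofSubtype]; exact Perm.mem_alternatingGroup.1 h1, fun a ha => ?_⟩
    exact Perm.ofSubtype_apply_of_not_mem _ ha

/-- `FA k` is generated by elements of order three -/
theorem FA_le {k : Perm (Fin n)} (H : Subgroup (Perm (Fin n))) (hH : ∀ σ ∈ FA k, σ ^ 3 = 1 → σ ∈ H) :
    FA k ≤ H := by
  rw [FA_eq_map, map_le_iff_le_comap, ← Perm.closure_three_cycles_eq_alternating, closure_le]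
  intro τ hτ
  have h3 : τ.IsThreeCycle := hτ
  rw [SetLike.mem_coe, mem_comap]
  apply hH
  · rw [FA_eq_map]
    exact mem_map_of_mem _ h3.mem_alternatingGroup
  · rw [← map_pow]
    have : τ ^ 3 = 1 := by rw [← h3.orderOf]; exact pow_orderOf_eq_one τ
    rw [this, map_one]

theorem card_FA (k : Perm (Fin n)) (h : 2 ≤ (Finset.univ.filter fun a => k a = a).card) :
    2 * Nat.card (FA k) = (Finset.univ.filter fun a => k a = a).card.factorial := by
  classical
  have h1 : Nat.card (FA k) = Nat.card (alternatingGroup {a // k a = a}) := by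
    rw [FA_eq_map]
    exact (Nat.card_congr (equivMapOfInjective _ _ Perm.ofSubtype_injective).toEquiv).symm
  have h2 : Fintype.card {a // k a = a} = (Finset.univ.filter fun a => k a = a).card :=
    Fintype.card_subtype _
  have : Nontrivial {a // k a = a} := by
    rw [← Fintype.one_lt_card_iff_nontrivial, h2]; omega
  rw [h1, two_mul_nat_card_alternatingGroup, Nat.card_perm, Nat.card_eq_fintype_card, h2]

end Cfsg.Agent.OddHalf.D5.Sym
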