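import Cfsg.Agent.OddHalf.D5.Sym.Core

/-!
# ODD D5, `C_G(t) = ⟨t⟩ × S_n`: views and pairs of views (helper59)

`exists_view`: `t^g = t k`, `k^g = k`. `pair`: two views `g₁`, `g₂` for `k₁`, `k₂` with the same fixed points, for which
a transposition `e` is mapped to `⟨t, k₁⟩ η`, `⟨t, k₂⟩ η` with the same `η`, give MATCH for some `m`.
-/

set_option autoImplicit false

namespace Cfsg.Agent.OddHalf.D5.Sym

open Subgroup Equiv Cfsg.Agent.OddHalf.D5.QPerm
open scoped commutatorElement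

variable {G : Type*} [Group G] {n : ℕ} {t x : G} {j jx : Perm (Fin n) →* G} {k k' : Perm (Fin n)}

/-- the homomorphism seen through `g` -/
def cjh (g : G) (j : Perm (Fin n) →* G) : Perm (Fin n) →* G := (MulAut.conj g).toMonoidHom.comp j

theorem cjh_apply (g : G) (j : Perm (Fin n) →* G) (a : Perm (Fin n)) : cjh g j a = g * j a * g⁻¹ := rfl

theorem sp_cjh (h : Sp t j) (g : G) : Sp (g * t * g⁻¹) (cjh g j) := h.conj g

/-- the basic view of `t k` -/
theorem exists_view (hn : 6 ≤ n) (h : Sp t j) (kk : k * k = 1) (k1 : k ≠ 1) (s : Perm.sign k = 1)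
    (hc : IsConj t (t * j k)) (h2 : 2 ≤ (Finset.univ.filter fun a => k a = a).card) :
    ∃ g : G, g * t * g⁻¹ = t * j k ∧ g * j k * g⁻¹ = j k := by
  classical
  obtain ⟨u, hu⟩ := isConj_iff.1 hc
  have hX : Sp (t * j k) (cjh u j) := by
    have := sp_cjh h u
    rwa [hu] at this
  obtain ⟨k', T⟩ := exists_two hn h hX rfl kk k1 s
  obtain ⟨π, hπ⟩ := exists_conj_of_card kk T.kk' (T.supp_eq h2)
  refine ⟨u * j π, ?_, ?_⟩
  · rw [← hu]
    calc u * j π * t * (u * j π)⁻¹ = u * (j π * t) * (j π)⁻¹ * u⁻¹ := by group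
      _ = u * (t * j π) * (j π)⁻¹ * u⁻¹ := by rw [h.comm]
      _ = u * t * u⁻¹ := by group
  · have h3 := T.jk
    rw [cjh_apply, ← hπ, map_mul, map_mul, map_inv] at h3
    refine Eq.trans ?_ h3.symm
    group

/-- a view as a `Two` -/
theorem two_of_view (h : Sp t j) (kk : k * k = 1) (k1 : k ≠ 1) (s : Perm.sign k = 1) {g : G}
    (gt : g * t * g⁻¹ = t * j k) (gk : g * j k * g⁻¹ = j k) : Two t (t * j k) j (cjh g j) k k where
  h := h
  hx := by have := sp_cjh h g; rwa [gt] at this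
  xt := rfl
  kk := kk
  kk' := kk
  jk := gk.symm
  s := s
  s' := s
  k1 := k1

/-- commutators of the centralizer of `k` are even in every view -/
theorem comm_mem (h : Sp t j) {g : G} (gt : g * t * g⁻¹ = t * j k) {a b : Perm (Fin n)} (ha : a * k = k * a)
    (hb : b * k = k * b) : ∃ m, Perm.sign m = 1 ∧ g * j m * g⁻¹ = j ⁅a, b⁆ := by
  have hx : Sp (t * j k) (cjh g j) := by have := sp_cjh h g; rwa [gt] at this
  have key : ∀ c : Perm (Fin n), c * k = k * c → j c * (t * j k) = (t * j k) * j c := by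
    intro c hc
    rw [← mul_assoc, ← h.comm, mul_assoc, ← map_mul, hc, map_mul, mul_assoc]
  obtain ⟨z, a', hz, ha'⟩ := hx.cent _ (key a ha)
  obtain ⟨z', b', hz', hb'⟩ := hx.cent _ (key b hb)
  refine ⟨⁅a', b'⁆, ?_, ?_⟩
  · rw [commutatorElement_def, Perm.sign_mul, Perm.sign_mul, Perm.sign_mul, Perm.sign_inv, Perm.sign_inv]
    rcases Int.units_eq_one_or (Perm.sign a') with h1 | h1 <;>
    rcases Int.units_eq_one_or (Perm.sign b') with h2 | h2 <;> rw [h1, h2] <;> decide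
  · rw [map_commutatorElement j a b, ha', hb', hx.comm_j hz hz']
    rfl

/-- a permutation commuting with `Alt(Fix k)` fixes `Fix k` pointwise -/
theorem fix_of_comm_FA {m : Perm (Fin n)} (h4 : 4 ≤ (Finset.univ.filter fun a => k a = a).card)
    (hm : ∀ l ∈ FA k, m * l = l * m) {a : Fin n} (ha : k a = a) : m a = a := by
  classical
  by_contra hne
  obtain ⟨b, hb, hba, hbm⟩ : ∃ b, k b = b ∧ b ≠ a ∧ b ≠ m a := by
    by_contra hcon
    push Not at hcon
    have h1 : (Finset.univ.filter fun a => k a = a) ⊆ {a, m a} := by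
      intro b hb
      rw [Finset.mem_filter] at hb
      rw [Finset.mem_insert, Finset.mem_singleton]
      by_cases h2 : b = a
      · exact Or.inl h2
      · exact Or.inr (hcon b hb.2 h2)
    have h2 := Finset.card_le_card h1
    have h3 : ({a, m a} : Finset (Fin n)).card ≤ 2 := Finset.card_le_two
    omega
  obtain ⟨c, hc, hca, hcm, hcb⟩ : ∃ c, k c = c ∧ c ≠ a ∧ c ≠ m a ∧ c ≠ b := by
    by_contra hcon
    push Not at hcon
    have h1 : (Finset.univ.filter fun a => k a = a) ⊆ {a, m a, b} := by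
      intro c hc
      rw [Finset.mem_filter] at hc
      rw [Finset.mem_insert, Finset.mem_insert, Finset.mem_singleton]
      by_cases h2 : c = a
      · exact Or.inl h2
      by_cases h3 : c = m a
      · exact Or.inr (Or.inl h3)
      · exact Or.inr (Or.inr (hcon c hc.2 h2 h3))
    have h2 := Finset.card_le_card h1
    have h3 : ({a, m a, b} : Finset (Fin n)).card ≤ 3 := Finset.card_le_three
    omega
  have hl : swap a b * swap a c ∈ FA k := by
    refine mem_FA.2 ⟨?_, ?_⟩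
    · rw [Perm.sign_mul, Perm.sign_swap (Ne.symm hba), Perm.sign_swap (Ne.symm hca)]
      decide
    · intro y hy
      have y1 : y ≠ a := by rintro rfl; exact hy ha
      have y2 : y ≠ b := by rintro rfl; exact hy hb
      have y3 : y ≠ c := by rintro rfl; exact hy hc
      rw [Perm.mul_apply, swap_apply_of_ne_of_ne y1 y3, swap_apply_of_ne_of_ne y1 y2]
  have h5 := congrArg (fun f : Perm (Fin n) => f a) (hm _ hl)
  simp only [Perm.mul_apply] at h5
  rw [swap_apply_left, swap_apply_of_ne_of_ne hca hcb, swap_apply_of_ne_of_ne hne (Ne.symm hcm),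
    swap_apply_of_ne_of_ne hne (Ne.symm hbm)] at h5
  exact hca (m.injective h5)

/-- the odd permutations of `Fix k` all go to `z κ (Sym(Fix k))` -/
theorem odd_image (T : Two t x j jx k k') {z : G} {κ r₀ r₁ : Perm (Fin n)} (hz : z = 1 ∨ z = t) (hκ : κ = 1 ∨ κ = k)
    (hr₀ : ∀ a, k' a ≠ a → r₀ a = a) (s₀ : Perm.sign r₀ = -1) (hr₁ : ∀ a, k a ≠ a → r₁ a = a)
    (he : jx r₀ = z * j (κ * r₁)) {r : Perm (Fin n)} (hr : ∀ a, k' a ≠ a → r a = a) (s : Perm.sign r = -1) :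
    ∃ r', (∀ a, k a ≠ a → r' a = a) ∧ jx r = z * j (κ * r') := by
  have h1 : r * r₀⁻¹ ∈ FA k' := by
    refine mem_FA.2 ⟨by rw [Perm.sign_mul, Perm.sign_inv, s, s₀]; decide, fun a ha => ?_⟩
    rw [Perm.mul_apply]
    have h2 : r₀⁻¹ a = a := by rw [Perm.inv_eq_iff_eq, hr₀ a ha]
    rw [h2, hr a ha]
  have h2 : jx (r * r₀⁻¹) ∈ (FA k).map j := by rw [T.map_eq]; exact mem_map_of_mem _ h1
  obtain ⟨l, hl, hl'⟩ := h2
  refine ⟨l * r₁, fun a ha => ?_, ?_⟩
  · rw [Perm.mul_apply, hr₁ a ha, (mem_FA.1 hl).2 a ha]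
  · have h3 : r = (r * r₀⁻¹) * r₀ := by group
    have h4 : l * κ = κ * l := by
      rcases hκ with rfl | rfl
      · rw [one_mul, mul_one]
      · exact FA_comm T.kk hl
    rw [h3, map_mul jx, ← hl', he, ← mul_assoc, ← T.h.zcomm hz, mul_assoc, ← map_mul, ← mul_assoc, h4, mul_assoc]

/-- **no `z = t`** -/
theorem z_one (h : Sp t j) (kk : k * k = 1) (k1 : k ≠ 1) (s : Perm.sign k = 1) {g z : G} {κ η : Perm (Fin n)}
    {p q : Fin n} (hpq : p ≠ q) (hp : k p = p) (hq : k q = q) (gt : g * t * g⁻¹ = t * j k)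
    (gk : g * j k * g⁻¹ = j k) (hz : z = 1 ∨ z = t) (hκ : κ = 1 ∨ κ = k) (hη : ∀ a, k a ≠ a → η a = a)
    (sη : Perm.sign η = -1) (ge : g * j (swap p q) * g⁻¹ = z * j (κ * η)) : z = 1 := by
  classical
  rcases hz with hz | hz
  · exact hz
  exfalso
  have T := two_of_view h kk k1 s gt gk
  have hE : ∀ a, k a ≠ a → swap p q a = a := fun a ha =>
    swap_apply_of_ne_of_ne (by rintro rfl; exact ha hp) (by rintro rfl; exact ha hq)
  obtain ⟨r', hr', hr⟩ := odd_image T (Or.inr hz) hκ hE (Perm.sign_swap hpq) hη ge hη sη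
  have hκκ : κ * κ = 1 := by rcases hκ with rfl | rfl <;> [exact one_mul 1; exact kk]
  have gκ : g * j κ * g⁻¹ = j κ := by
    rcases hκ with rfl | rfl
    · rw [map_one]; group
    · exact gk
  have jkk : j k * j k = 1 := by rw [← map_mul, kk, map_one]
  have h3 : g * g * t * (g * g)⁻¹ = t := by
    have : g * g * t * (g * g)⁻¹ = g * (g * t * g⁻¹) * g⁻¹ := by group
    rw [this, gt]
    have : g * (t * j k) * g⁻¹ = (g * t * g⁻¹) * (g * j k * g⁻¹) := by group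
    rw [this, gt, gk, mul_assoc, jkk, mul_one]
  have h4 : g * g * j (swap p q) * (g * g)⁻¹ = j (k * r') := by
    have h5 : g * g * j (swap p q) * (g * g)⁻¹ = g * (g * j (swap p q) * g⁻¹) * g⁻¹ := by group
    have h6 : g * (z * j (κ * η)) * g⁻¹ = (g * z * g⁻¹) * (g * j κ * g⁻¹) * (g * j η * g⁻¹) := by
      rw [map_mul]; group
    rw [h5, ge, h6, gκ, show g * j η * g⁻¹ = z * j (κ * r') from hr, hz, gt]
    calc t * j k * j κ * (t * j (κ * r')) = t * (j k * j κ * t) * j (κ * r') := by group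
      _ = t * (t * (j k * j κ)) * j (κ * r') := by rw [← map_mul, h.comm]
      _ = (t * t) * j (k * κ * (κ * r')) := by rw [map_mul j (k * κ), map_mul j k κ]; group
      _ = j (k * r') := by
        rw [h.tt, one_mul]
        congr 1
        rw [mul_assoc, ← mul_assoc κ, hκκ, one_mul]
  obtain ⟨y, c, hy, hc2⟩ := h.cent (g * g) (by rw [mul_inv_eq_iff_eq_mul] at h3; exact h3)
  rw [hc2, h.conj_j hy] at h4
  have h5 := h.inj h4
  rw [mul_swap_eq_swap_mul, mul_inv_cancel_right] at h5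
  -- a transposition moves two letters, `k r'` at least four
  have h6 : k.support ⊆ (k * r').support := by
    intro a ha
    rw [Perm.mem_support] at ha ⊢
    rw [Perm.mul_apply, hr' a ha]
    exact ha
  have h7 := Finset.card_le_card h6
  rw [← h5, Perm.card_support_swap (fun e => hpq (c.injective e))] at h7
  obtain ⟨b, hb⟩ := four_dvd_support kk s
  have h8 : 0 < k.support.card := by
    rw [Finset.card_pos]
    by_contra h9
    rw [Finset.not_nonempty_iff_eq_empty, Perm.support_eq_empty_iff] at h9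
    exact k1 h9
  omega

/-- two full involutions of `Fix k` are conjugate by a permutation of `Fix k` -/
theorem exists_conj_fix {η₁ η₂ : Perm (Fin n)} (hη₁ : ∀ a, k a ≠ a ↔ η₁ a = a) (hη₂ : ∀ a, k a ≠ a ↔ η₂ a = a)
    (h₁ : η₁ * η₁ = 1) (h₂ : η₂ * η₂ = 1) : ∃ π : Perm (Fin n), (∀ a, k a ≠ a → π a = a) ∧ π * η₂ * π⁻¹ = η₁ := by
  classical
  obtain ⟨τ₁, e₁⟩ := exists_sub (k := k) (σ := η₁) (fun a ha => (hη₁ a).1 ha)
  obtain ⟨τ₂, e₂⟩ := exists_sub (k := k) (σ := η₂) (fun a ha => (hη₂ a).1 ha)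
  have hs : η₁.support = η₂.support := by
    ext a
    rw [Perm.mem_support, Perm.mem_support]
    have a1 := hη₁ a
    have a2 := hη₂ a
    tauto
  have hc : IsConj τ₂ τ₁ := by
    rw [Perm.isConj_iff_cycleType_eq, ← Perm.cycleType_ofSubtype, ← Perm.cycleType_ofSubtype, e₁, e₂,
      cycleType_of_sq h₁, cycleType_of_sq h₂, hs]
  obtain ⟨π, hπ⟩ := isConj_iff.1 hc
  refine ⟨Perm.ofSubtype π, fun a ha => Perm.ofSubtype_apply_of_not_mem π ha, ?_⟩
  rw [← e₁, ← e₂, ← map_mul, ← map_inv, ← map_mul, hπ]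

/-- MATCH for `k`, `p`, `q` -/
def Match (t : G) (j : Perm (Fin n) →* G) (k : Perm (Fin n)) (p q : Fin n) : Prop :=
  ∃ g : G, g * t * g⁻¹ = t * j k ∧ g * j k * g⁻¹ = j k ∧
    (g * j (swap p q) * g⁻¹ = j (swap p q) ∨ g * (t * j (swap p q)) * g⁻¹ = t * j (swap p q))

/-- one of two commuting views: the product `k₁ k₂` seen from `t k₁` -/
theorem half (h : Sp t j) {k₁ w : Perm (Fin n)} (kk : k₁ * k₁ = 1) (k1 : k₁ ≠ 1) (s : Perm.sign k₁ = 1) {g : G}
    (gt : g * t * g⁻¹ = t * j k₁) (gk : g * j k₁ * g⁻¹ = j k₁) (hw : w * w = 1) (hw1 : w ≠ 1)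
    (hwk : ∀ a, k₁ a = a → w a = a) (hc : ∃ a b, a * k₁ = k₁ * a ∧ b * k₁ = k₁ * b ∧ ⁅a, b⁆ = w)
    (h4 : 4 ≤ (Finset.univ.filter fun a => k₁ a = a).card)
    (htype : ∀ m, m * m = 1 → m ≠ 1 → Perm.sign m = 1 → IsConj t (t * j m) →
      (Finset.univ.filter fun a => m a = a).card ≤ (Finset.univ.filter fun a => k₁ a = a).card)
    (hcl : IsConj t (t * j (k₁ * w))) :
    ∃ m, m * m = 1 ∧ m ≠ 1 ∧ Perm.sign m = 1 ∧ g * j m * g⁻¹ = j w ∧ (∀ a, k₁ a = a ↔ m a = a) ∧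
      IsConj t (t * j m) := by
  classical
  obtain ⟨a, b, ha, hb, hab⟩ := hc
  obtain ⟨m, hm, hgm⟩ := comm_mem h gt ha hb
  rw [hab] at hgm
  have hmm : m * m = 1 := by
    apply h.inj
    have h1 : g * (j m * j m) * g⁻¹ = 1 := by
      calc g * (j m * j m) * g⁻¹ = (g * j m * g⁻¹) * (g * j m * g⁻¹) := by group
        _ = 1 := by rw [hgm, ← map_mul, hw, map_one]
    rw [map_mul, map_one]
    calc j m * j m = g⁻¹ * (g * (j m * j m) * g⁻¹) * g := by group
      _ = 1 := by rw [h1]; group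
  have hm1 : m ≠ 1 := by
    rintro rfl
    apply hw1
    apply h.inj
    rw [← hgm, map_one]
    group
  have hcl' : IsConj t (t * j m) := by
    refine hcl.trans (isConj_iff.2 ⟨g⁻¹, ?_⟩)
    have h1 : g * (t * j m) * g⁻¹ = t * j (k₁ * w) := by
      calc g * (t * j m) * g⁻¹ = (g * t * g⁻¹) * (g * j m * g⁻¹) := by group
        _ = t * j (k₁ * w) := by rw [gt, hgm, map_mul, mul_assoc]
    rw [← h1]
    group
  have T := two_of_view h kk k1 s gt gk
  have hcomm : ∀ l ∈ FA k₁, m * l = l * m := by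
    intro l hl
    have h1 : (cjh g j) l ∈ (FA k₁).map j := by rw [T.map_eq]; exact mem_map_of_mem _ hl
    obtain ⟨l', hl', e⟩ := h1
    have h2 : w * l' = l' * w := by
      ext y
      rw [Perm.mul_apply, Perm.mul_apply]
      congr 1
      by_cases hy : k₁ y = y
      · have h3 : k₁ (l' y) = l' y := by
          have h4 := congrArg (fun f : Perm (Fin n) => f y) (FA_comm kk hl')
          simp only [Perm.mul_apply] at h4
          rw [← h4, hy]
        rw [hwk _ h3, hwk _ hy]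
      · have h3 : k₁ (w y) ≠ w y := by
          intro h5
          have h6 := hwk _ h5
          have h7 : w y = y := w.injective h6
          rw [h7] at h5
          exact hy h5
        rw [(mem_FA.1 hl').2 y hy, (mem_FA.1 hl').2 _ h3]
    apply h.inj
    have h5 : g * (j m * j l) * g⁻¹ = g * (j l * j m) * g⁻¹ := by
      calc g * (j m * j l) * g⁻¹ = (g * j m * g⁻¹) * (g * j l * g⁻¹) := by group
        _ = j w * j l' := by rw [hgm, e]; rfl
        _ = j l' * j w := by rw [← map_mul, h2, map_mul]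
        _ = (g * j l * g⁻¹) * (g * j m * g⁻¹) := by rw [hgm, e]; rfl
        _ = g * (j l * j m) * g⁻¹ := by group
    rw [map_mul, map_mul]
    exact mul_left_cancel (mul_right_cancel h5)
  have hfix : ∀ a, k₁ a = a → m a = a := fun a ha => fix_of_comm_FA h4 hcomm ha
  have hsub : (Finset.univ.filter fun a => k₁ a = a) ⊆ Finset.univ.filter fun a => m a = a := by
    intro a ha
    rw [Finset.mem_filter] at ha ⊢
    exact ⟨ha.1, hfix a ha.2⟩
  have heq := Finset.eq_of_subset_of_card_le hsub (htype m hmm hm1 hm hcl')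
  refine ⟨m, hmm, hm1, hm, hgm, fun a => ⟨hfix a, fun hma => ?_⟩, hcl'⟩
  have h1 : a ∈ Finset.univ.filter fun a => m a = a := by rw [Finset.mem_filter]; exact ⟨Finset.mem_univ _, hma⟩
  rw [← heq, Finset.mem_filter] at h1
  exact h1.2

/-- **two views with the same `η`** -/
theorem pair (h : Sp t j) {k₁ k₂ : Perm (Fin n)} (kk₁ : k₁ * k₁ = 1) (kk₂ : k₂ * k₂ = 1) (k1 : k₁ ≠ 1)
    (k2 : k₂ ≠ 1) (s₁ : Perm.sign k₁ = 1) (s₂ : Perm.sign k₂ = 1) (h12 : k₁ * k₂ = k₂ * k₁) (hne : k₁ ≠ k₂)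
    (hfix : ∀ a, k₁ a = a ↔ k₂ a = a)
    (hc₁ : ∃ a b, a * k₁ = k₁ * a ∧ b * k₁ = k₁ * b ∧ ⁅a, b⁆ = k₁ * k₂)
    (hc₂ : ∃ a b, a * k₂ = k₂ * a ∧ b * k₂ = k₂ * b ∧ ⁅a, b⁆ = k₁ * k₂)
    (h4 : 4 ≤ (Finset.univ.filter fun a => k₁ a = a).card)
    (htype : ∀ m, m * m = 1 → m ≠ 1 → Perm.sign m = 1 → IsConj t (t * j m) →
      (Finset.univ.filter fun a => m a = a).card ≤ (Finset.univ.filter fun a => k₁ a = a).card)
    {g₁ g₂ : G} {κ₁ κ₂ η : Perm (Fin n)} {p q : Fin n} (hpq : p ≠ q) (hp : k₁ p = p) (hq : k₁ q = q)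
    (gt₁ : g₁ * t * g₁⁻¹ = t * j k₁) (gk₁ : g₁ * j k₁ * g₁⁻¹ = j k₁)
    (gt₂ : g₂ * t * g₂⁻¹ = t * j k₂) (gk₂ : g₂ * j k₂ * g₂⁻¹ = j k₂)
    (hκ₁ : κ₁ = 1 ∨ κ₁ = k₁) (hκ₂ : κ₂ = 1 ∨ κ₂ = k₂)
    (ge₁ : g₁ * j (swap p q) * g₁⁻¹ = j (κ₁ * η)) (ge₂ : g₂ * j (swap p q) * g₂⁻¹ = j (κ₂ * η)) :
    ∃ m, m * m = 1 ∧ m ≠ 1 ∧ Perm.sign m = 1 ∧ IsConj t (t * j m) ∧ m p = p ∧ m q = q ∧ Match t j m p q := by
  classical
  have hw : k₁ * k₂ * (k₁ * k₂) = 1 := by
    calc k₁ * k₂ * (k₁ * k₂) = k₁ * (k₂ * k₁) * k₂ := by group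
      _ = (k₁ * k₁) * (k₂ * k₂) := by rw [← h12]; group
      _ = 1 := by rw [kk₁, kk₂, one_mul]
  have hw1 : k₁ * k₂ ≠ 1 := by
    intro e
    apply hne
    rw [← mul_one k₁, ← kk₂, ← mul_assoc, e, one_mul]
  have hwk : ∀ a, k₁ a = a → (k₁ * k₂) a = a := by
    intro a ha
    rw [Perm.mul_apply, (hfix a).1 ha, ha]
  have hcl₁ : IsConj t (t * j k₁) := isConj_iff.2 ⟨g₁, gt₁⟩
  have hcl₂ : IsConj t (t * j k₂) := isConj_iff.2 ⟨g₂, gt₂⟩
  have e₁ : k₁ * (k₁ * k₂) = k₂ := by rw [← mul_assoc, kk₁, one_mul]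
  have e₂ : k₂ * (k₁ * k₂) = k₁ := by rw [h12, ← mul_assoc, kk₂, one_mul]
  obtain ⟨m, hmm, hm1, hms, hgm, hmf, hmc⟩ := half h kk₁ k1 s₁ gt₁ gk₁ hw hw1 hwk hc₁ h4 htype
    (by rw [e₁]; exact hcl₂)
  have hcard : (Finset.univ.filter fun a => k₂ a = a) = Finset.univ.filter fun a => k₁ a = a := by
    ext a
    rw [Finset.mem_filter, Finset.mem_filter, hfix a]
  obtain ⟨m', hmm', hm1', hms', hgm', hmf', hmc'⟩ := half h kk₂ k2 s₂ gt₂ gk₂ hw hw1
    (fun a ha => hwk a ((hfix a).2 ha)) hc₂ (by rw [hcard]; exact h4) (by rw [hcard]; exact htype)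
    (by rw [e₂]; exact hcl₁)
  -- `x`
  set g : G := g₁⁻¹ * g₂ with hg
  have hconj : ∀ v : G, g * v * g⁻¹ = g₁⁻¹ * (g₂ * v * g₂⁻¹) * g₁ := by
    intro v; rw [hg]; group
  have hxt : g * t * g⁻¹ = t * j m := by
    rw [hconj, gt₂]
    have h1 : g₁ * (t * j m) * g₁⁻¹ = t * j k₂ := by
      calc g₁ * (t * j m) * g₁⁻¹ = (g₁ * t * g₁⁻¹) * (g₁ * j m * g₁⁻¹) := by group
        _ = t * j k₂ := by rw [gt₁, hgm, mul_assoc, ← map_mul, e₁]
    rw [← h1]
    group
  have hjm : g * j m' * g⁻¹ = j m := by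
    rw [hconj, hgm', ← hgm]
    group
  have T : Two t (t * j m) j (cjh g j) m m' :=
    { h := h
      hx := by have := sp_cjh h g; rwa [hxt] at this
      xt := rfl
      kk := hmm
      kk' := hmm'
      jk := hjm.symm
      s := hms
      s' := hms'
      k1 := hm1 }
  have hmp : m p = p := (hmf p).1 hp
  have hmq : m q = q := (hmf q).1 hq
  have hmp' : m' p = p := (hmf' p).1 ((hfix p).1 hp)
  have hmq' : m' q = q := (hmf' q).1 ((hfix q).1 hq)
  obtain ⟨z, κ, η', hz, hκ, hη', -, -, he, -⟩ := T.core hpq hmp' hmq'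
  -- `c`
  have hin : g₁⁻¹ * j k₂ * g₁ = j (k₁ * m) := by
    have h1 : g₁ * j (k₁ * m) * g₁⁻¹ = j k₂ := by
      calc g₁ * j (k₁ * m) * g₁⁻¹ = (g₁ * j k₁ * g₁⁻¹) * (g₁ * j m * g₁⁻¹) := by rw [map_mul]; group
        _ = j k₂ := by rw [gk₁, hgm, ← map_mul, e₁]
    rw [← h1]
    group
  have hin₁ : g₁⁻¹ * j k₁ * g₁ = j k₁ := by
    have h1 : j k₁ = g₁⁻¹ * (g₁ * j k₁ * g₁⁻¹) * g₁ := by group
    rw [gk₁] at h1
    exact h1.symm
  obtain ⟨c, hc, hcj⟩ : ∃ c : Perm (Fin n), (∀ a, k₁ a = a → c a = a) ∧ g₁⁻¹ * j (κ₂ * κ₁⁻¹) * g₁ = j c := by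
    have a1 : ∃ c : Perm (Fin n), (∀ a, k₁ a = a → c a = a) ∧ g₁⁻¹ * j κ₂ * g₁ = j c := by
      rcases hκ₂ with rfl | rfl
      · exact ⟨1, fun _ _ => rfl, by rw [map_one]; group⟩
      · exact ⟨k₁ * m, fun a ha => by rw [Perm.mul_apply, (hmf a).1 ha, ha], hin⟩
    have a2 : ∃ c : Perm (Fin n), (∀ a, k₁ a = a → c a = a) ∧ g₁⁻¹ * j κ₁⁻¹ * g₁ = j c := by
      rcases hκ₁ with rfl | rfl
      · exact ⟨1, fun _ _ => rfl, by rw [inv_one, map_one]; group⟩
      · exact ⟨κ₁, fun a ha => ha, by rw [inv_eq_of_mul_eq_one_left kk₁]; exact hin₁⟩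
    obtain ⟨c, hc, hc'⟩ := a1
    obtain ⟨d, hd, hd'⟩ := a2
    refine ⟨c * d, fun a ha => by rw [Perm.mul_apply, hd a ha, hc a ha], ?_⟩
    rw [map_mul j c, ← hc', ← hd', map_mul]
    group
  have hje : g * j (swap p q) * g⁻¹ = j (c * swap p q) := by
    rw [hconj, ge₂]
    have h1 : j η = j κ₁⁻¹ * (g₁ * j (swap p q) * g₁⁻¹) := by
      rw [ge₁, ← map_mul, ← mul_assoc, inv_mul_cancel, one_mul]
    rw [map_mul j κ₂, h1, map_mul j c, ← hcj, map_mul j κ₂]
    group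
  have he' : z * j (κ * η') = j (c * swap p q) := by rw [← he, ← hje]; rfl
  obtain ⟨hz1, hce⟩ := h.uniq hz he'
  have hκf : ∀ a, k₁ a = a → κ a = a := by
    intro a ha
    rcases hκ with rfl | rfl
    · rfl
    · exact (hmf a).1 ha
  have hη'e : η' = swap p q := by
    ext a
    congr 1
    by_cases ha : k₁ a = a
    · have h1 := congrArg (fun f : Perm (Fin n) => f a) hce
      simp only [Perm.mul_apply] at h1
      have h2 : k₁ (η' a) = η' a := by
        by_contra h3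
        have h5 := hη' (η' a) (fun h6 => h3 ((hmf _).2 h6))
        have h6 := η'.injective h5
        rw [h6] at h3
        exact h3 ha
      have h3 : k₁ (swap p q a) = swap p q a := by
        by_cases b1 : a = p
        · rw [b1, swap_apply_left]; exact hq
        by_cases b2 : a = q
        · rw [b2, swap_apply_right]; exact hp
        rw [swap_apply_of_ne_of_ne b1 b2]; exact ha
      rw [hκf _ h2, hc _ h3] at h1
      exact h1
    · rw [hη' a (fun h6 => ha ((hmf _).2 h6))]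
      rw [swap_apply_of_ne_of_ne]
      · rintro rfl; exact ha hp
      · rintro rfl; exact ha hq
  -- the final element
  obtain ⟨π, hπ⟩ := exists_conj_of_card hmm hmm' (T.supp_eq (by
    have h1 : (Finset.univ.filter fun a => m a = a) = Finset.univ.filter fun a => k₁ a = a := by
      ext a
      rw [Finset.mem_filter, Finset.mem_filter, hmf a]
    rw [h1]
    omega))
  have hπp : m' (π p) = π p := by rw [← hπ]; simp [hmp]
  have hπq : m' (π q) = π q := by rw [← hπ]; simp [hmq]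
  obtain ⟨π', hπ'k, hπ'p, hπ'q⟩ := exists_move (fun e => hpq (π.injective e)) hpq hπp hπq hmp' hmq'
  obtain ⟨ρ, hρ⟩ : ∃ ρ, ρ = π' * π := ⟨_, rfl⟩
  have hρm : ρ * m * ρ⁻¹ = m' := by
    rw [hρ]
    calc π' * π * m * (π' * π)⁻¹ = π' * (π * m * π⁻¹) * π'⁻¹ := by group
      _ = m' := by rw [hπ, hπ'k, mul_inv_cancel_right]
  have hρp : ρ p = p := by rw [hρ]; exact hπ'p
  have hρq : ρ q = q := by rw [hρ]; exact hπ'q
  have hρe : ρ * swap p q * ρ⁻¹ = swap p q := by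
    rw [mul_swap_eq_swap_mul, mul_inv_cancel_right, hρp, hρq]
  refine ⟨m, hmm, hm1, hms, hmc, hmp, hmq, g * j ρ, ?_, ?_, ?_⟩
  · rw [← hxt]
    calc g * j ρ * t * (g * j ρ)⁻¹ = g * (j ρ * t) * (j ρ)⁻¹ * g⁻¹ := by group
      _ = g * (t * j ρ) * (j ρ)⁻¹ * g⁻¹ := by rw [h.comm]
      _ = g * t * g⁻¹ := by group
  · calc g * j ρ * j m * (g * j ρ)⁻¹ = g * j (ρ * m * ρ⁻¹) * g⁻¹ := by
          rw [map_mul j (ρ * m), map_mul j ρ, map_inv]; group
      _ = j m := by rw [hρm, hjm]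
  · have c1 : ∀ w : Perm (Fin n), g * j ρ * j w * (g * j ρ)⁻¹ = g * j (ρ * w * ρ⁻¹) * g⁻¹ := by
      intro w
      rw [map_mul j (ρ * w), map_mul j ρ, map_inv]; group
    refine finish h hmm hm1 hpq hmp hmq ?_ ?_ hz hκ ?_
    · rw [← hxt]
      calc g * j ρ * t * (g * j ρ)⁻¹ = g * (j ρ * t) * (j ρ)⁻¹ * g⁻¹ := by group
        _ = g * (t * j ρ) * (j ρ)⁻¹ * g⁻¹ := by rw [h.comm]
        _ = g * t * g⁻¹ := by group
    · rw [c1, hρm, hjm]
    · rw [c1, hρe, hje, ← he', hη'e]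

end Cfsg.Agent.OddHalf.D5.Sym
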