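import Cfsg.Agent.OddHalf.D5.ElemNorm

/-!
# ODD D5: minimal even type `2b ≥ 6`, `n - 4b ∈ {0, 1, 5, 6, ...}` (helper59)

`#10990` REST (i), (ii): `M = C_G(t) = ⟨t⟩ × A`, `A_n ≤ A ≤ S_n`. If `t w ~ t` for the even involutions `w` moving
`4b ≥ 12` letters, then some `t w ~ t` with `w ≠ 1` even moving less letters.
-/

set_option autoImplicit false

namespace Cfsg.Agent.OddHalf.D5.Elem

open Equiv Subgroup

/-- free actions -/
theorem card_dvd_of_free {β : Type*} [Finite β] {H : Subgroup (Perm β)} (m : ℕ) :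
    ∀ (Z : Set β) (_ : Z.ncard = m) (_ : ∀ f ∈ H, ∀ z ∈ Z, f z ∈ Z)
      (_ : ∀ f ∈ H, ∀ z ∈ Z, f z = z → f = 1), Nat.card H ∣ m := by
  induction m using Nat.strong_induction_on with
  | _ m ih =>
    intro Z hm hinv hfree
    rcases Set.eq_empty_or_nonempty Z with rfl | ⟨z, hz⟩
    · rw [Set.ncard_empty] at hm
      rw [← hm]
      exact dvd_zero _
    · have h1 : fx H {z} = ⊥ := by
        rw [eq_bot_iff]
        rintro f ⟨hf, hfz⟩
        exact Subgroup.mem_bot.2 (hfree f hf z hz (hfz z rfl))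
      have h2 := card_eq H z
      rw [h1, Subgroup.card_bot, mul_one] at h2
      have hsub : orb H z ⊆ Z := by
        rintro _ ⟨f, hf, rfl⟩
        exact hinv f hf z hz
      have h3 := Set.ncard_sdiff_add_ncard_of_subset hsub (Set.toFinite _)
      have h4 : 0 < (orb H z).ncard := (Set.ncard_pos (Set.toFinite _)).2 ⟨z, self_mem_orb H z⟩
      have h5 := ih (Z \ orb H z).ncard (by omega) (Z \ orb H z) rfl (by
        rintro f hf y ⟨hy, hy'⟩
        refine ⟨hinv f hf y hy, fun h => hy' ?_⟩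
        obtain ⟨g, hg, e⟩ := h
        exact ⟨f⁻¹ * g, mul_mem (inv_mem hf) hg, by rw [Perm.mul_apply, e, inv_self]⟩)
        (fun f hf y hy => hfree f hf y hy.1)
      rw [← hm, ← h3, ← h2]
      exact Dvd.dvd.add h5 dvd_rfl

variable {G : Type*} [Group G] {n : ℕ} {t : G} {A : Subgroup (Perm (Fin n))} {ι : A →* G}

/-- `Qe` as an element of `A` -/
noncomputable def QB (hA : An n ≤ A) {k : ℕ} (e : Fin k × Fin 4 ↪ Fin n) (v : Fin k → Fin 4) : A :=
  ⟨Qe e v, hA (Perm.mem_alternatingGroup.2 (sign_Qe e v))⟩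

theorem QB_mul (hA : An n ≤ A) {k : ℕ} (e : Fin k × Fin 4 ↪ Fin n) (v w : Fin k → Fin 4) :
    QB hA e v * QB hA e w = QB hA e fun i => κ (v i) (w i) := Subtype.ext (Qe_mul e v w)

theorem QB_sq (hA : An n ≤ A) {k : ℕ} (e : Fin k × Fin 4 ↪ Fin n) (v : Fin k → Fin 4) :
    QB hA e v * QB hA e v = 1 := Subtype.ext (Qe_sq e v)

theorem QB_inj (hA : An n ≤ A) {k : ℕ} (e : Fin k × Fin 4 ↪ Fin n) {v w : Fin k → Fin 4}
    (h : QB hA e v = QB hA e w) : v = w := Qe_inj e (congrArg Subtype.val h)

/-- the alternating group on the letters `e'`, in `A` -/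
noncomputable def restA (hA : An n ≤ A) {r : ℕ} (e' : Fin r ↪ Fin n) : alternatingGroup (Fin r) →* A :=
  (Subgroup.inclusion hA).comp (restHom e')

theorem restA_inj (hA : An n ≤ A) {r : ℕ} (e' : Fin r ↪ Fin n) : Function.Injective (restA hA e') :=
  (Subgroup.inclusion_injective hA).comp (restHom_inj e')

theorem restA_comm (hA : An n ≤ A) {r k : ℕ} {e' : Fin r ↪ Fin n} {e : Fin k × Fin 4 ↪ Fin n}
    (he : Set.range e' = (Set.range e)ᶜ) (b : alternatingGroup (Fin r)) (v : Fin k → Fin 4) :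
    restA hA e' b * QB hA e v = QB hA e v * restA hA e' b := by
  have h1 := congrArg (Subtype.val : An n → Perm (Fin n)) (restHom_comm he b v)
  exact Subtype.ext h1

/-- **the view from `d = t ι(Q v₀)`** -/
theorem view (h : Spl t A ι) (hA : An n ≤ A) {k r : ℕ} (e : Fin k × Fin 4 ↪ Fin n)
    (hn : n = 4 * k + r) (hr : r ≤ 1 ∨ 5 ≤ r) {v₀ : Fin k → Fin 4} {d : G}
    (hdef : d = t * ι (QB hA e v₀)) (hd : IsConj t d) :
    ∃ (j : A →* G) (B : (Fin k → Fin 4) → A), (∀ a, IsConj (ι a) (j a)) ∧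
      (∀ a, IsConj (t * ι a) (d * j a)) ∧
      (∀ v, j (B v) = ι (QB hA e v) ∨ j (B v) = d * ι (QB hA e v)) ∧ Function.Injective B ∧
      (∀ v w, B v * B w = B fun i => κ (v i) (w i)) ∧
      ∀ F : Subgroup (Perm (Fin n)), (∀ f, f ∈ F ↔ ∃ v, f = (B v : Perm (Fin n))) →
        (mv F).ncard = 4 * k := by
  classical
  obtain ⟨g₀, hg₀⟩ := isConj_iff.1 hd
  let j : A →* G := (MulAut.conj g₀).toMonoidHom.comp ι
  have hj : ∀ a, j a = g₀ * ι a * g₀⁻¹ := fun _ => rfl
  have hS : Spl d A j := by rw [← hg₀]; exact h.conj g₀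
  have hjinj : Function.Injective j := hS.inj
  have hdj : ∀ a, j a ≠ d := hS.ne
  have hdQ : ∀ w, ι (QB hA e w) * d = d * ι (QB hA e w) := by
    intro w
    rw [hdef, ← mul_assoc, h.comm', mul_assoc, mul_assoc, ← map_mul, ← map_mul, QB_mul, QB_mul]
    congr 3
    funext i
    exact κ_comm _ _
  have hB : ∀ w, ∃ a, j a = ι (QB hA e w) ∨ j a = d * ι (QB hA e w) := by
    intro w
    obtain ⟨a, ha | ha⟩ := hS.cases (hdQ w)
    · exact ⟨a, Or.inl ha.symm⟩
    · exact ⟨a, Or.inr (by rw [ha, ← mul_assoc, hS.tt, one_mul])⟩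
  choose B hB using hB
  have huniq : ∀ a b w, (j a = ι (QB hA e w) ∨ j a = d * ι (QB hA e w)) →
      (j b = ι (QB hA e w) ∨ j b = d * ι (QB hA e w)) → a = b := by
    intro a b w ha hb
    rcases ha with h1 | h1 <;> rcases hb with h2 | h2
    · exact hjinj (h1.trans h2.symm)
    · exfalso
      apply hdj (b * a⁻¹)
      rw [map_mul, map_inv, h1, h2, mul_inv_cancel_right]
    · exfalso
      apply hdj (a * b⁻¹)
      rw [map_mul, map_inv, h1, h2, mul_inv_cancel_right]
    · exact hjinj (h1.trans h2.symm)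
  have hmul : ∀ v w, B v * B w = B fun i => κ (v i) (w i) := by
    intro v w
    refine huniq _ _ (fun i => κ (v i) (w i)) ?_ (hB _)
    rw [map_mul, ← QB_mul, map_mul]
    rcases hB v with h1 | h1 <;> rcases hB w with h2 | h2 <;> rw [h1, h2]
    · exact Or.inl rfl
    · right
      rw [← mul_assoc, hdQ, mul_assoc]
    · right
      rw [mul_assoc]
    · left
      rw [mul_assoc, ← mul_assoc (ι _) d, hdQ, mul_assoc, ← mul_assoc d d, hS.tt, one_mul]
  have hBinj : Function.Injective B := by
    intro w w' hww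
    have h3 : ∀ u u', ι (QB hA e u) = d * ι (QB hA e u') → False := by
      intro u u' h4
      rw [hdef, mul_assoc, ← map_mul] at h4
      exact h.tne _ _ h4
    rcases hB w with h1 | h1 <;> rcases hB w' with h2 | h2 <;> rw [hww, h2] at h1
    · exact (QB_inj hA e (h.inj h1)).symm
    · exact (h3 _ _ h1.symm).elim
    · exact (h3 _ _ h1).elim
    · exact (QB_inj hA e (h.inj (mul_left_cancel h1))).symm
  refine ⟨j, B, fun a => isConj_iff.2 ⟨g₀, rfl⟩, fun a => isConj_iff.2 ⟨g₀, ?_⟩, hB, hBinj, hmul, ?_⟩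
  · rw [hj, ← hg₀]
    group
  · intro F hF
    have hF2 : ∀ f ∈ F, f * f = 1 := by
      intro f hf
      obtain ⟨v, rfl⟩ := (hF f).1 hf
      have h1 : B v * B v = 1 := by
        have h2 : B v * B v = B fun _ => 0 := by
          rw [hmul]
          congr 1
          funext i
          exact κ_self _
        have h3 : B (fun _ => 0) * B (fun _ => 0) = B fun _ => 0 :=
          (hmul _ _).trans (congrArg B (funext fun _ => κ_self _))
        rw [h2]
        exact mul_eq_left.1 h3
      exact congrArg Subtype.val h1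
    have hFcard : Nat.card F = 4 ^ k := by
      have h1 : Function.Bijective (fun w : Fin k → Fin 4 =>
          (⟨(B w : Perm (Fin n)), (hF _).2 ⟨w, rfl⟩⟩ : F)) := by
        constructor
        · intro w w' hww
          have h9 : ((B w : A) : Perm (Fin n)) = B w' :=
            congrArg (Subtype.val : F → Perm (Fin n)) hww
          exact hBinj (Subtype.ext h9)
        · rintro ⟨f, hf⟩
          obtain ⟨w, rfl⟩ := (hF f).1 hf
          exact ⟨w, rfl⟩
      rw [← Nat.card_congr (Equiv.ofBijective _ h1), Nat.card_fun, Nat.card_fin, Nat.card_fin]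
    rcases hr with hr | hr
    · have hge := four_mul_le hF2 hFcard
      have hle := mv_le_card F
      have heven := even_mv hF2
      rw [Nat.card_fin] at hle
      omega
    · obtain ⟨e', he'⟩ := exists_rest e hn
      have hcomm : ∀ (b : alternatingGroup (Fin r)) w, ι (restA hA e' b) * ι (QB hA e w) =
          ι (QB hA e w) * ι (restA hA e' b) := by
        intro b w
        rw [← map_mul, restA_comm hA he', map_mul]
      have hcommd : ∀ b : alternatingGroup (Fin r), ι (restA hA e' b) * d = d * ι (restA hA e' b) := by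
        intro b
        rw [hdef, ← mul_assoc, h.comm', mul_assoc, hcomm, mul_assoc]
      have hrange : ∀ b : alternatingGroup (Fin r), ι (restA hA e' b) ∈ j.range := by
        intro b
        have h1 : Subgroup.closure {g : alternatingGroup (Fin r) |
            Equiv.Perm.IsThreeCycle (g : Perm (Fin r))} ≤ (j.range).comap (ι.comp (restA hA e')) := by
          rw [Subgroup.closure_le]
          intro b hb
          obtain ⟨a, ha | ha⟩ := hS.cases (hcommd b)
          · exact ⟨a, ha.symm⟩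
          · exfalso
            have h3 : b ^ 3 = 1 := by
              apply Subtype.ext
              rw [Subgroup.coe_pow, Subgroup.coe_one, ← (show orderOf (b : Perm (Fin r)) = 3 from
                Perm.IsThreeCycle.orderOf hb)]
              exact pow_orderOf_eq_one _
            have h4 : ι (restA hA e' b) ^ 3 = 1 := by
              rw [← map_pow, ← map_pow, h3, map_one, map_one]
            have h5 : (d * j a) ^ 3 = d ^ 3 * (j a) ^ 3 :=
              (show Commute d (j a) from hS.comm a).mul_pow 3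
            rw [ha, h5, pow_succ, pow_two, hS.tt, one_mul, ← map_pow] at h4
            apply hdj ((a ^ 3)⁻¹)
            rw [map_inv]
            exact (eq_inv_of_mul_eq_one_left h4).symm
        rw [alternatingGroup.closure_isThreeCycles_eq_top] at h1
        exact h1 (Subgroup.mem_top b)
      let ψ : alternatingGroup (Fin r) →* A :=
        (MonoidHom.ofInjective hjinj).symm.toMonoidHom.comp
          ((ι.comp (restA hA e')).codRestrict j.range hrange)
      have hψ : ∀ b, j (ψ b) = ι (restA hA e' b) := by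
        intro b
        have h1 := (MonoidHom.ofInjective hjinj).apply_symm_apply ⟨ι (restA hA e' b), hrange b⟩
        exact congrArg Subtype.val h1
      let ψ' : alternatingGroup (Fin r) →* Perm (Fin n) := A.subtype.comp ψ
      have hψinj : Function.Injective ψ' := by
        intro b b' hbb
        apply restA_inj hA e'
        apply h.inj
        rw [← hψ, ← hψ]
        congr 1
        exact Subtype.ext hbb
      refine card_mv_five (L := ψ'.range) hF2 ?_ hr (by rw [Nat.card_fin]; exact hn) hFcard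
        (MonoidHom.ofInjective hψinj).symm
      rintro _ ⟨b, rfl⟩ f hf
      obtain ⟨v, rfl⟩ := (hF f).1 hf
      have h1 : ψ b * B v = B v * ψ b := by
        apply hjinj
        rw [map_mul, map_mul, hψ]
        rcases hB v with h2 | h2 <;> rw [h2]
        · exact hcomm b v
        · rw [← mul_assoc, hcommd, mul_assoc, hcomm, mul_assoc]
      exact congrArg Subtype.val h1

theorem κ_bit {a b : Fin 4} (ha : a = 0 ∨ a = 1) (hb : b = 0 ∨ b = 1) : κ a b = 0 ∨ κ a b = 1 := by
  revert a b; decide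

theorem κ_two {a : Fin 4} (ha : a = 0 ∨ a = 1) : κ 2 a ≠ 0 := by revert a; decide

/-- **REST**: the minimal even type is not `2b ≥ 6` with `n - 4b ∈ {0, 1, 5, 6, ...}` -/
theorem sym_rest (h : Spl t A ι) (hA : An n ≤ A) {b r : ℕ} (hb : 3 ≤ b) (hn : n = 4 * b + r)
    (hr : r ≤ 1 ∨ 5 ≤ r) (e : Fin b × Fin 4 ↪ Fin n)
    (hK : ∀ a : A, Perm.sign (a : Perm (Fin n)) = 1 → ¬ IsConj t (ι a))
    (hfull : ∀ v : Fin b → Fin 4, (∀ i, v i ≠ 0) → IsConj t (t * ι (QB hA e v)))
    (hmin : ∀ a : A, Perm.sign (a : Perm (Fin n)) = 1 → a * a = 1 → a ≠ 1 → IsConj t (t * ι a) →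
      4 * b ≤ {x | (a : Perm (Fin n)) x ≠ x}.ncard) : False := by
  classical
  have hd : IsConj t (t * ι (QB hA e fun _ => 2)) := hfull _ (fun _ => by decide)
  obtain ⟨j, B, hj1, hj2, hB, hBinj, hBmul, hmv⟩ := view h hA e hn hr rfl hd
  have hB1 : ∀ v, B v * B v = 1 := by
    intro v
    have h2 : B v * B v = B fun _ => 0 :=
      (hBmul _ _).trans (congrArg B (funext fun _ => κ_self _))
    have h3 : B (fun _ => 0) * B (fun _ => 0) = B fun _ => 0 :=
      (hBmul _ _).trans (congrArg B (funext fun _ => κ_self _))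
    rw [h2]
    exact mul_eq_left.1 h3
  have hB0 : B (fun _ => 0) = 1 := by
    have h3 : B (fun _ => 0) * B (fun _ => 0) = B fun _ => 0 :=
      (hBmul _ _).trans (congrArg B (funext fun _ => κ_self _))
    exact mul_eq_left.1 h3
  have hcoe : ∀ v, (B v : Perm (Fin n)) * B v = 1 := fun v => congrArg Subtype.val (hB1 v)
  -- `F`
  let F : Subgroup (Perm (Fin n)) :=
    { carrier := {f | ∃ v, f = (B v : Perm (Fin n))}
      one_mem' := ⟨fun _ => 0, (congrArg Subtype.val hB0).symm⟩
      mul_mem' := by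
        rintro _ _ ⟨v, rfl⟩ ⟨w, rfl⟩
        exact ⟨_, congrArg Subtype.val (hBmul v w)⟩
      inv_mem' := by
        rintro _ ⟨v, rfl⟩
        exact ⟨v, inv_eq_of_mul_eq_one_left (hcoe v)⟩ }
  have hF : ∀ f, f ∈ F ↔ ∃ v, f = (B v : Perm (Fin n)) := fun f => Iff.rfl
  have hF2 : ∀ f ∈ F, f * f = 1 := by
    rintro _ ⟨v, rfl⟩
    exact hcoe v
  have hFcard : Nat.card F = 4 ^ b := by
    have h1 : Function.Bijective (fun w : Fin b → Fin 4 =>
        (⟨(B w : Perm (Fin n)), (hF _).2 ⟨w, rfl⟩⟩ : F)) := by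
      constructor
      · intro w w' hww
        have h9 : ((B w : A) : Perm (Fin n)) = B w' :=
          congrArg (Subtype.val : F → Perm (Fin n)) hww
        exact hBinj (Subtype.ext h9)
      · rintro ⟨f, hf⟩
        obtain ⟨w, rfl⟩ := (hF f).1 hf
        exact ⟨w, rfl⟩
    rw [← Nat.card_congr (Equiv.ofBijective _ h1), Nat.card_fun, Nat.card_fin, Nat.card_fin]
  have hFmv : (mv F).ncard = 4 * b := hmv F hF
  -- `U`
  let U : Subgroup (Perm (Fin n)) :=
    { carrier := {f | ∃ v : Fin b → Fin 4, (∀ i, v i = 0 ∨ v i = 1) ∧ f = (B v : Perm (Fin n))}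
      one_mem' := ⟨fun _ => 0, fun _ => Or.inl rfl, (congrArg Subtype.val hB0).symm⟩
      mul_mem' := by
        rintro _ _ ⟨v, hv, rfl⟩ ⟨w, hw, rfl⟩
        exact ⟨_, fun i => κ_bit (hv i) (hw i), congrArg Subtype.val (hBmul v w)⟩
      inv_mem' := by
        rintro _ ⟨v, hv, rfl⟩
        exact ⟨v, hv, inv_eq_of_mul_eq_one_left (hcoe v)⟩ }
  have hU : ∀ f, f ∈ U ↔ ∃ v : Fin b → Fin 4, (∀ i, v i = 0 ∨ v i = 1) ∧ f = (B v : Perm (Fin n)) :=
    fun f => Iff.rfl
  have hUF : U ≤ F := by
    rintro _ ⟨v, _, rfl⟩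
    exact ⟨v, rfl⟩
  have hUcard : Nat.card U = 2 ^ b := by
    let bit : (Fin b → Fin 2) → Fin b → Fin 4 := fun c i => if c i = 0 then 0 else 1
    have hbit : ∀ c i, bit c i = 0 ∨ bit c i = 1 := by
      intro c i
      by_cases h0 : c i = 0
      · exact Or.inl (if_pos h0)
      · exact Or.inr (if_neg h0)
    have h1 : Function.Bijective (fun c : Fin b → Fin 2 =>
        (⟨(B (bit c) : Perm (Fin n)), (hU _).2 ⟨bit c, hbit c, rfl⟩⟩ : U)) := by
      constructor
      · intro c c' hcc
        have h9 : ((B (bit c) : A) : Perm (Fin n)) = B (bit c') :=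
          congrArg (Subtype.val : U → Perm (Fin n)) hcc
        have h10 := hBinj (Subtype.ext h9)
        funext i
        have h11 : (if c i = 0 then (0 : Fin 4) else 1) = if c' i = 0 then 0 else 1 := congrFun h10 i
        generalize c i = x at *
        generalize c' i = y at *
        revert x y
        decide
      · rintro ⟨f, hf⟩
        obtain ⟨w, hw, rfl⟩ := (hU f).1 hf
        refine ⟨fun i => if w i = 0 then 0 else 1, Subtype.ext ?_⟩
        show ((B (bit fun i => if w i = 0 then 0 else 1) : A) : Perm (Fin n)) = B w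
        congr 2
        funext i
        show (if (if w i = 0 then (0 : Fin 2) else 1) = 0 then (0 : Fin 4) else 1) = w i
        rcases hw i with h0 | h0 <;> rw [h0] <;> decide
    rw [← Nat.card_congr (Equiv.ofBijective _ h1), Nat.card_fun, Nat.card_fin, Nat.card_fin]
  -- `H`
  let s : U →* ℤˣ := Perm.sign.comp U.subtype
  let H : Subgroup (Perm (Fin n)) := s.ker.map U.subtype
  have hH : ∀ f, f ∈ H ↔ f ∈ U ∧ Perm.sign f = 1 := by
    intro f
    constructor
    · rintro ⟨⟨f, hf⟩, hf1, rfl⟩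
      exact ⟨hf, hf1⟩
    · rintro ⟨hf, hf1⟩
      exact ⟨⟨f, hf⟩, hf1, rfl⟩
  have hHcard : Nat.card H = Nat.card s.ker :=
    (Nat.card_congr (s.ker.equivMapOfInjective U.subtype U.subtype_injective).toEquiv).symm
  have hidx : Nat.card s.ker * s.ker.index = Nat.card U := Subgroup.card_mul_index _
  have hidx2 : s.ker.index ≤ 2 := by
    rw [Subgroup.index_ker]
    refine (Nat.card_le_card_of_injective (Subtype.val : s.range → ℤˣ) Subtype.val_injective).trans ?_
    rw [Nat.card_eq_fintype_card]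
    decide
  have hmoved : ∀ f ∈ H, f ≠ 1 → ∀ x, x ∈ mv F → f x ≠ x := by
    intro f hf hf1
    obtain ⟨hfU, hfs⟩ := (hH f).1 hf
    obtain ⟨u, hu, rfl⟩ := (hU f).1 hfU
    have hdι : t * ι (QB hA e fun _ => 2) * ι (QB hA e u) = t * ι (QB hA e fun i => κ 2 (u i)) := by
      rw [mul_assoc, ← map_mul, QB_mul]
    have hcl : IsConj t (t * ι (QB hA e fun _ => 2) * ι (QB hA e u)) := by
      rw [hdι]
      exact hfull _ (fun i => κ_two (hu i))
    have hjB : j (B u) = ι (QB hA e u) := by
      rcases hB u with h1 | h1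
      · exact h1
      · exfalso
        rw [← h1] at hcl
        exact hK _ hfs (hcl.trans (hj1 (B u)).symm)
    have h2 : IsConj t (t * ι (B u)) := by
      refine IsConj.trans ?_ (hj2 (B u)).symm
      rw [hjB]
      exact hcl
    have h3 := hmin (B u) hfs (hB1 u) (fun h => hf1 (congrArg Subtype.val h)) h2
    have h4 : {x | (B u : Perm (Fin n)) x ≠ x} ⊆ mv F := fun x hx => ⟨_, hUF hfU, hx⟩
    have h5 : {x | (B u : Perm (Fin n)) x ≠ x} = mv F :=
      Set.eq_of_subset_of_ncard_le h4 (by rw [hFmv]; exact h3) (Set.toFinite _)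
    intro x hx
    rw [← h5] at hx
    exact hx
  have hHle : Nat.card H ≤ 4 := by
    have hne : (mv F).Nonempty := by
      rw [← Set.ncard_pos (Set.toFinite _), hFmv]
      omega
    obtain ⟨x, hx⟩ := hne
    have hc : ∀ l ∈ (⊥ : Subgroup (Perm (Fin n))), ∀ f ∈ F, l * f = f * l := by
      intro l hl f _
      rw [Subgroup.mem_bot.1 hl, one_mul, mul_one]
    obtain ⟨a, ha1, ha, hk⟩ := key_ineq (L := ⊥) hF2 hc hFcard (d := 0) (by rw [hFmv, add_zero]) hx
    rw [Subgroup.relIndex_bot_right, one_mul, add_zero] at hk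
    have h1 : fx H {x} = ⊥ := by
      rw [eq_bot_iff]
      rintro f ⟨hf, hfz⟩
      by_contra hf1
      exact hmoved f hf (fun h => hf1 (Subgroup.mem_bot.2 h)) x hx (hfz x rfl)
    have h2 := card_eq H x
    rw [h1, Subgroup.card_bot, mul_one] at h2
    have h3 : orb H x ⊆ orb F x := by
      rintro _ ⟨f, hf, rfl⟩
      exact ⟨f, hUF ((hH f).1 hf).1, rfl⟩
    have h4 := Set.ncard_le_ncard h3 (Set.toFinite _)
    rw [ha] at h4
    have h5 : a ≤ 2 := by
      by_contra h6
      have h7 : ∀ m : ℕ, 2 * (m + 3) < 2 ^ (m + 3) := by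
        intro m
        induction m with
        | zero => norm_num
        | succ m ih =>
          rw [show m + 1 + 3 = m + 3 + 1 by omega, pow_succ]
          omega
      have h8 := h7 (a - 3)
      rw [show a - 3 + 3 = a by omega] at h8
      omega
    have h6 : (2 : ℕ) ^ a ≤ 2 ^ 2 := Nat.pow_le_pow_right (by norm_num) h5
    omega
  have hb3 : b = 3 := by
    by_contra hne
    have h1 : (2 : ℕ) ^ 4 ≤ 2 ^ b := Nat.pow_le_pow_right (by norm_num) (by omega)
    have h2 : Nat.card s.ker * s.ker.index ≤ 4 * 2 := Nat.mul_le_mul (hHcard ▸ hHle) hidx2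
    omega
  subst hb3
  have hex : ∃ f ∈ U, Perm.sign f ≠ 1 := by
    by_contra hno
    push Not at hno
    have h1 : H = U := by
      ext f
      rw [hH]
      exact ⟨fun h => h.1, fun h => ⟨h, hno f h⟩⟩
    rw [h1, hUcard] at hHle
    omega
  obtain ⟨f, hfU, hfs⟩ := hex
  have hH4 : Nat.card H = 4 := by
    have h2 : Nat.card s.ker * s.ker.index ≤ Nat.card s.ker * 2 := Nat.mul_le_mul_left _ hidx2
    rw [hidx, hUcard, ← hHcard] at h2
    omega
  have hcomm := comm_of_sq hF2
  have h1 := card_dvd_of_free (H := H) ({x | f x ≠ x}).ncard {x | f x ≠ x} rfl (by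
    intro g hg x hx hgx
    have h3 : g * f = f * g := hcomm g (hUF ((hH g).1 hg).1) f (hUF hfU)
    apply hx
    have h4 : g (f x) = f (g x) := congrArg (fun p : Perm (Fin n) => p x) h3
    rw [hgx] at h4
    exact g.injective h4) (by
    intro g hg x hx hgx
    by_contra hg1
    exact hmoved g hg hg1 x ⟨f, hUF hfU, hx⟩ hgx)
  rw [hH4] at h1
  have h2 := sign_of_moved (f := f) (hF2 f (hUF hfU)) (B := {x | f x ≠ x}) (fun x => Iff.rfl)
  apply hfs
  rw [h2]
  obtain ⟨m, hm⟩ := h1
  rw [hm, show 4 * m / 2 = 2 * m by omega, pow_mul]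
  simp

end Cfsg.Agent.OddHalf.D5.Elem
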